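import Mathlib
import Groth.Prelude.Def_CAlg
import Groth.Agent.Lib.Helper16.GorFlat
import Groth.Agent.Lib.Helper16.GorAnn
import Groth.Agent.Lib.Helper16.RegularGorenstein

set_option autoImplicit false
universe u
open IsLocalRing

namespace Groth.Agent.Lib.Helper2.GK

/-- a local principal ideal domain is Gorenstein -/
theorem gor_of_pid (A : Type u) [CommRing A] [IsLocalRing A] [IsDomain A]
    [IsPrincipalIdealRing A] : LocCoh.IsGorensteinLocalRing A :=
  Groth.Agent.Lib.Helper16.RegGor.isGorensteinLocalRing_of_isRegularLocalRing A

/-- a local ring which is a field is Gorenstein -/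
theorem gor_of_isField (A : Type u) [CommRing A] [IsLocalRing A] (h : IsField A) :
    LocCoh.IsGorensteinLocalRing A := by
  haveI : IsDomain A := h.isDomain
  haveI : IsPrincipalIdealRing A := h.isPrincipalIdealRing
  exact gor_of_pid A

/-- Gorenstein local rings are invariant under ring isomorphisms -/
theorem gor_of_ringEquiv {A B : Type u} [CommRing A] [CommRing B] (e : A ≃+* B)
    (hA : LocCoh.IsGorensteinLocalRing A) : LocCoh.IsGorensteinLocalRing B := by
  haveI : IsNoetherianRing A := hA.toIsNoetherian
  haveI : IsLocalRing A := hA.toIsLocalRing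
  haveI : IsNoetherianRing B := isNoetherianRing_of_ringEquiv A e
  haveI : IsLocalRing B := e.isLocalRing
  letI : Algebra A B := e.toRingHom.toAlgebra
  haveI : IsLocalHom (algebraMap A B) := by
    change IsLocalHom (e : A →+* B)
    infer_instance
  haveI : Module.Flat A B := by
    let l : A ≃ₗ[A] B :=
      { e.toAddEquiv with
        map_smul' := fun a x => by
          change e (a * x) = e a * e x
          exact map_mul e a x }
    exact Module.Flat.of_linearEquiv l.symm
  rw [Groth.Agent.Lib.Helper16.GorFlat.isGorenstein_iff_of_flat A B]
  refine ⟨hA, ?_⟩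
  have hmap : (maximalIdeal A).map (algebraMap A B) = maximalIdeal B := by
    change (maximalIdeal A).map (e : A →+* B) = maximalIdeal B
    apply le_antisymm
    · exact IsLocalRing.map_maximalIdeal_le (e : A →+* B)
    · intro b hb
      have : e.symm b ∈ maximalIdeal A := by
        rw [mem_maximalIdeal, mem_nonunits_iff] at hb ⊢
        intro h
        apply hb
        have := h.map e
        rwa [e.apply_symm_apply] at this
      have h2 := Ideal.mem_map_of_mem (e : A →+* B) this
      simpa using h2
  haveI hloc : IsLocalRing (B ⧸ (maximalIdeal A).map (algebraMap A B)) :=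
    Groth.Agent.Lib.Helper16.GorFlat.isLocalRing_quot_of_le _ (by rw [hmap])
  apply gor_of_isField
  rw [hmap, ← Ideal.Quotient.maximal_ideal_iff_isField_quotient]
  infer_instance


/-- transport of Gorenstein localizations along a ring isomorphism -/
theorem gor_localization_of_ringEquiv {B C : Type u} [CommRing B] [CommRing C] (e : B ≃+* C)
    (q : Ideal C) [q.IsPrime] (p : Ideal B) [p.IsPrime] (hp : p = q.comap (e : B →+* C))
    (h : LocCoh.IsGorensteinLocalRing (Localization.AtPrime p)) :
    LocCoh.IsGorensteinLocalRing (Localization.AtPrime q) := by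
  have H : p.primeCompl.map e.toMonoidHom = q.primeCompl := by
    ext c
    constructor
    · rintro ⟨b, hb, rfl⟩
      intro hc
      apply hb
      rw [hp]
      exact hc
    · intro hc
      refine ⟨e.symm c, ?_, e.apply_symm_apply c⟩
      intro hb
      apply hc
      rw [hp] at hb
      have : e (e.symm c) ∈ q := hb
      rwa [e.apply_symm_apply] at this
  exact gor_of_ringEquiv (IsLocalization.ringEquivOfRingEquiv (Localization.AtPrime p)
    (Localization.AtPrime q) e H) h

/-- cutting a localization by a regular element -/
theorem gor_localization_quot_iff {B : Type u} [CommRing B] [IsNoetherianRing B] (x : B)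
    (hx : x ∈ nonZeroDivisors B) (I : Ideal B) (hI : I = Ideal.span {x})
    (q : Ideal (B ⧸ I)) [q.IsPrime]
    (p : Ideal B) [p.IsPrime] (hp : p = q.comap (Ideal.Quotient.mk I)) :
    LocCoh.IsGorensteinLocalRing (Localization.AtPrime p) ↔
      LocCoh.IsGorensteinLocalRing (Localization.AtPrime q) := by
  have hxp : x ∈ p := by
    rw [hp, Ideal.mem_comap]
    have : Ideal.Quotient.mk I x = 0 :=
      Ideal.Quotient.eq_zero_iff_mem.2 (by rw [hI]; exact Ideal.mem_span_singleton_self x)
    rw [this]
    exact zero_mem _
  have hfm : algebraMap B (Localization.AtPrime p) x ∈ maximalIdeal (Localization.AtPrime p) := by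
    rw [← Localization.AtPrime.map_eq_maximalIdeal]
    exact Ideal.mem_map_of_mem _ hxp
  have hreg : IsSMulRegular (Localization.AtPrime p) (algebraMap B (Localization.AtPrime p) x) := by
    have h1 : algebraMap B (Localization.AtPrime p) x ∈ nonZeroDivisors (Localization.AtPrime p) :=
      IsLocalization.map_nonZeroDivisors_le p.primeCompl (Localization.AtPrime p) ⟨x, hx, rfl⟩
    exact (isRegular_iff_mem_nonZeroDivisors.2 h1).isSMulRegular
  rw [Groth.Agent.Lib.Helper11.Rees.gorenstein_iff_quotient hfm hreg]
  have hJ : Ideal.span {algebraMap B (Localization.AtPrime p) x} =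
      I.map (algebraMap B (Localization.AtPrime p)) := by
    rw [hI, Ideal.map_span, Set.image_singleton]
  have hsub : Algebra.algebraMapSubmonoid (B ⧸ I) p.primeCompl = q.primeCompl := by
    ext c
    constructor
    · rintro ⟨b, hb, rfl⟩
      intro hc
      apply hb
      rw [hp]
      exact hc
    · intro hc
      obtain ⟨b, rfl⟩ := Ideal.Quotient.mk_surjective c
      refine ⟨b, ?_, rfl⟩
      intro hb
      apply hc
      rw [hp] at hb
      exact hb
  haveI hloc : IsLocalization q.primeCompl
      (Localization.AtPrime p ⧸ I.map (algebraMap B (Localization.AtPrime p))) := by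
    rw [← hsub]
    infer_instance
  let e1 : (Localization.AtPrime p ⧸ Ideal.span {algebraMap B (Localization.AtPrime p) x}) ≃+*
      (Localization.AtPrime p ⧸ I.map (algebraMap B (Localization.AtPrime p))) :=
    Ideal.quotEquivOfEq hJ
  let e2 : Localization.AtPrime q ≃+*
      (Localization.AtPrime p ⧸ I.map (algebraMap B (Localization.AtPrime p))) :=
    (IsLocalization.algEquiv q.primeCompl (Localization.AtPrime q)
      (Localization.AtPrime p ⧸ I.map (algebraMap B (Localization.AtPrime p)))).toRingEquiv
  constructor
  · intro h
    exact gor_of_ringEquiv (e1.trans e2.symm) h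
  · intro h
    exact gor_of_ringEquiv (e2.trans e1.symm) h

/-- a Noetherian ring is Gorenstein once its localizations at maximal ideals are -/
theorem isGorensteinRing_of_maximal (B : Type u) [CommRing B] [IsNoetherianRing B]
    (h : ∀ (m : Ideal B) [m.IsMaximal], LocCoh.IsGorensteinLocalRing (Localization.AtPrime m)) :
    LocCoh.IsGorensteinRing B where
  isGorensteinLocalRing_localization p hpp := by
    obtain ⟨m, hm, hpm⟩ := Ideal.exists_le_maximal p hpp.ne_top
    haveI := hm
    haveI hG := h m
    set S := Localization.AtPrime m with hS
    have hdisj : Disjoint (m.primeCompl : Set B) (p : Set B) := by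
      rw [Set.disjoint_left]
      intro b hb hbp
      exact hb (hpm hbp)
    set p' : Ideal S := p.map (algebraMap B S) with hp'
    haveI hp'prime : p'.IsPrime := IsLocalization.isPrime_of_isPrime_disjoint m.primeCompl S p hpp hdisj
    have hcomap : p'.comap (algebraMap B S) = p :=
      IsLocalization.under_map_of_isPrime_disjoint m.primeCompl S hpp hdisj
    have hG' : LocCoh.IsGorensteinLocalRing (Localization.AtPrime p') :=
      Groth.Agent.Lib.Helper16.GorAnn.isGorensteinLocalRing_localization p'
    haveI h1 : IsLocalization.AtPrime (Localization.AtPrime p') (p'.comap (algebraMap B S)) :=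
      IsLocalization.isLocalization_isLocalization_atPrime_isLocalization m.primeCompl
        (Localization.AtPrime p') p'
    have hsub : (p'.comap (algebraMap B S)).primeCompl = p.primeCompl := by
      ext b
      change b ∉ p'.comap (algebraMap B S) ↔ b ∉ p
      rw [hcomap]
    haveI h2 : IsLocalization p.primeCompl (Localization.AtPrime p') := by
      rw [← hsub]
      exact h1
    exact gor_of_ringEquiv (IsLocalization.algEquiv p.primeCompl (Localization.AtPrime p')
      (Localization.AtPrime p)).toRingEquiv hG'

end Groth.Agent.Lib.Helper2.GK
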