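import Mathlib
import Groth.Agent.Lib.Helper2.Gor.GK1

set_option autoImplicit false
universe u
open IsLocalRing

namespace Groth.Agent.Lib.Helper2.GK

/-- a Noetherian local domain with principal maximal ideal is Gorenstein -/
theorem gor_of_isPrincipal_maximalIdeal (A : Type u) [CommRing A] [IsLocalRing A] [IsDomain A]
    [IsNoetherianRing A] (h : (maximalIdeal A).IsPrincipal) : LocCoh.IsGorensteinLocalRing A := by
  have : IsPrincipalIdealRing A :=
    ((tfae_of_isNoetherianRing_of_isLocalRing_of_isDomain A).out 4 0).1 h
  exact gor_of_pid A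

/-- localizations of a Dedekind domain are Gorenstein -/
theorem gor_localization_of_isDedekindDomain (A : Type u) [CommRing A] [IsDedekindDomain A]
    (n : Ideal A) [n.IsPrime] : LocCoh.IsGorensteinLocalRing (Localization.AtPrime n) := by
  have hD : IsDedekindDomain (Localization.AtPrime n) := inferInstance
  have : IsPrincipalIdealRing (Localization.AtPrime n) :=
    ((tfae_of_isNoetherianRing_of_isLocalRing_of_isDomain (Localization.AtPrime n)).out 2 0).1 hD
  exact gor_of_pid _

/-- local criterion: if `s • n ⊆ (u)` with `s ∉ n`, `u ∈ n`, then the localization at `n` is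
Gorenstein -/
theorem gor_localization_of_principal (B : Type u) [CommRing B] [IsDomain B] [IsNoetherianRing B]
    (n : Ideal B) [n.IsPrime] (u s : B) (hu : u ∈ n) (hs : s ∉ n)
    (h : ∀ f ∈ n, ∃ g : B, s * f = u * g) :
    LocCoh.IsGorensteinLocalRing (Localization.AtPrime n) := by
  have : IsDomain (Localization.AtPrime n) :=
    IsLocalization.isDomain_localization n.primeCompl_le_nonZeroDivisors
  apply gor_of_isPrincipal_maximalIdeal
  refine ⟨⟨algebraMap B (Localization.AtPrime n) u, ?_⟩⟩
  rw [← Localization.AtPrime.map_eq_maximalIdeal]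
  apply le_antisymm
  · rw [Ideal.map_le_iff_le_comap]
    intro f hf
    obtain ⟨g, hg⟩ := h f hf
    rw [Ideal.mem_comap]
    have hsu : IsUnit (algebraMap B (Localization.AtPrime n) s) :=
      IsLocalization.map_units (Localization.AtPrime n) (⟨s, hs⟩ : n.primeCompl)
    have h1 : algebraMap B (Localization.AtPrime n) s * algebraMap B (Localization.AtPrime n) f =
        algebraMap B (Localization.AtPrime n) u * algebraMap B (Localization.AtPrime n) g := by
      rw [← map_mul, ← map_mul, hg]
    have h2 : algebraMap B (Localization.AtPrime n) f =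
        algebraMap B (Localization.AtPrime n) u *
          (algebraMap B (Localization.AtPrime n) g * ↑hsu.unit⁻¹) := by
      rw [← mul_assoc, ← h1, mul_comm (algebraMap B (Localization.AtPrime n) s), mul_assoc]
      rw [IsUnit.mul_val_inv, mul_one]
    rw [h2]
    change _ ∈ Ideal.span {algebraMap B (Localization.AtPrime n) u}
    exact Ideal.mul_mem_right _ _ (Ideal.mem_span_singleton_self _)
  · change Ideal.span {algebraMap B (Localization.AtPrime n) u} ≤ _
    rw [Ideal.span_le, Set.singleton_subset_iff]
    exact Ideal.mem_map_of_mem _ hu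

/-- a local ring is its own localization at the maximal ideal -/
theorem gor_localization_self_iff (T : Type u) [CommRing T] [IsLocalRing T] (q : Ideal T)
    [q.IsPrime] (hq : q = maximalIdeal T) :
    LocCoh.IsGorensteinLocalRing (Localization.AtPrime q) ↔ LocCoh.IsGorensteinLocalRing T := by
  have H : q.primeCompl ≤ IsUnit.submonoid T := by
    intro x hx
    change IsUnit x
    by_contra hnu
    apply hx
    rw [hq]
    exact (mem_maximalIdeal x).2 hnu
  let e : T ≃+* Localization.AtPrime q :=
    (IsLocalization.atUnits T q.primeCompl (S := Localization.AtPrime q) H).toRingEquiv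
  exact ⟨fun h => gor_of_ringEquiv e.symm h, fun h => gor_of_ringEquiv e h⟩

/-- cutting by a regular element generating the kernel of a surjection -/
theorem gor_cut {B C : Type u} [CommRing B] [IsNoetherianRing B] [CommRing C] (φ : B →+* C)
    (hφ : Function.Surjective φ) (x : B) (hx : x ∈ nonZeroDivisors B)
    (hker : RingHom.ker φ = Ideal.span {x}) (n : Ideal C) [n.IsPrime] (m : Ideal B) [m.IsPrime]
    (hm : m = n.comap φ) :
    LocCoh.IsGorensteinLocalRing (Localization.AtPrime m) ↔
      LocCoh.IsGorensteinLocalRing (Localization.AtPrime n) := by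
  let e : B ⧸ RingHom.ker φ ≃+* C := RingHom.quotientKerEquivOfSurjective hφ
  have he : ∀ b : B, e (Ideal.Quotient.mk _ b) = φ b := fun b =>
    RingHom.quotientKerEquivOfSurjective_apply_mk hφ b
  let q : Ideal (B ⧸ RingHom.ker φ) := n.comap (e : B ⧸ RingHom.ker φ →+* C)
  have : q.IsPrime := Ideal.comap_isPrime _ _
  have hq : m = q.comap (Ideal.Quotient.mk (RingHom.ker φ)) := by
    rw [hm]
    ext b
    simp only [Ideal.mem_comap, q]
    rw [← he b]
    rfl
  rw [gor_localization_quot_iff x hx (RingHom.ker φ) hker q m hq]
  constructor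
  · intro h
    exact gor_localization_of_ringEquiv e n q rfl h
  · intro h
    refine gor_localization_of_ringEquiv e.symm q n ?_ h
    ext c
    simp only [Ideal.mem_comap, q]
    constructor
    · intro hc
      have : (e : B ⧸ RingHom.ker φ →+* C) ((e.symm : C →+* B ⧸ RingHom.ker φ) c) = c :=
        e.apply_symm_apply c
      rw [this]
      exact hc
    · intro hc
      have : (e : B ⧸ RingHom.ker φ →+* C) ((e.symm : C →+* B ⧸ RingHom.ker φ) c) = c :=
        e.apply_symm_apply c
      rw [this] at hc
      exact hc

end Groth.Agent.Lib.Helper2.GK
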