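import Mathlib
import Groth.Agent.Lib.Helper9.DimTrdeg

set_option autoImplicit false
universe u
open Polynomial

namespace Groth.Agent.Lib.Helper2.GD

/-- an algebraic element of a field extension of an algebraically closed field lies in the
base field -/
theorem exists_algebraMap_eq_of_isAlgebraic {k K : Type*} [Field k] [IsAlgClosed k] [Field K]
    [Algebra k K] (u : K) (hu : IsAlgebraic k u) : ∃ c : k, u = algebraMap k K c := by
  have hi : IsIntegral k u := hu.isIntegral
  have h1 := IsAlgClosed.degree_eq_one_of_irreducible k (minpoly.irreducible hi)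
  obtain ⟨c, hc⟩ := minpoly.mem_range_of_degree_eq_one k u h1
  exact ⟨c, hc.symm⟩

section step1

variable {k : Type u} [Field k] {R : Type u} [CommRing R] [Algebra k R]
  (𝒜 : ℤ → Submodule k R) [GradedAlgebra 𝒜]

theorem aeval_mem (n : ℤ) (x y : R) (hx : x ∈ 𝒜 n) (hy : y ∈ 𝒜 n) (d : ℕ)
    (F : MvPolynomial (Fin 2) k) (hF : F.IsHomogeneous d) :
    MvPolynomial.aeval ![x, y] F ∈ 𝒜 ((d : ℤ) * n) := by
  rw [F.as_sum, map_sum]
  refine Submodule.sum_mem _ fun s hs => ?_
  rw [MvPolynomial.aeval_monomial, Algebra.algebraMap_eq_smul_one, smul_mul_assoc, one_mul]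
  refine Submodule.smul_mem _ _ ?_
  have hp : s.prod (fun i e => ![x, y] i ^ e) = x ^ (s 0) * y ^ (s 1) := by
    rw [Finsupp.prod_fintype _ _ (by simp)]
    simp [Fin.prod_univ_two]
  rw [hp]
  have hdeg : s 0 + s 1 = d := by
    have h1 : s.degree = d := by
      rw [Finsupp.degree_eq_weight_one]; exact hF (MvPolynomial.mem_support_iff.mp hs)
    rw [Finsupp.degree_eq_sum, Fin.sum_univ_two] at h1
    exact h1
  have h1 := SetLike.pow_mem_graded (s 0) hx
  have h2 := SetLike.pow_mem_graded (s 1) hy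
  have h3 := SetLike.mul_mem_graded h1 h2
  have : (d : ℤ) * n = s 0 • n + s 1 • n := by
    rw [← hdeg]; push_cast; simp; ring
  rw [this]
  exact h3

theorem exists_homogeneous_relation (n : ℤ) (hn : n ≠ 0) (x y : R) (hx : x ∈ 𝒜 n) (hy : y ∈ 𝒜 n)
    (G : MvPolynomial (Fin 2) k) (hG : G ≠ 0) (hG0 : MvPolynomial.aeval ![x, y] G = 0) :
    ∃ (d : ℕ) (F : MvPolynomial (Fin 2) k), F.IsHomogeneous d ∧ F ≠ 0 ∧
      MvPolynomial.aeval ![x, y] F = 0 := by
  have key : ∀ d : ℕ, MvPolynomial.aeval ![x, y] (MvPolynomial.homogeneousComponent d G) = 0 := by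
    intro d
    have h1 : GradedRing.proj 𝒜 ((d : ℤ) * n) (MvPolynomial.aeval ![x, y] G) = 0 := by
      rw [hG0, map_zero]
    have hsum := congrArg (MvPolynomial.aeval (R := k) ![x, y])
      (MvPolynomial.sum_homogeneousComponent G)
    rw [← hsum, map_sum, map_sum] at h1
    by_cases hd : d ∈ Finset.range (G.totalDegree + 1)
    · rw [Finset.sum_eq_single_of_mem d hd] at h1
      · rw [GradedRing.proj_apply, DirectSum.decompose_of_mem_same] at h1
        · exact h1
        · exact aeval_mem 𝒜 n x y hx hy d _ (MvPolynomial.homogeneousComponent_isHomogeneous d G)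
      · intro e _ hed
        rw [GradedRing.proj_apply]
        refine DirectSum.decompose_of_mem_ne 𝒜
          (aeval_mem 𝒜 n x y hx hy e _ (MvPolynomial.homogeneousComponent_isHomogeneous e G)) ?_
        intro h
        apply hed
        have := mul_right_cancel₀ hn h
        exact_mod_cast this
    · have : MvPolynomial.homogeneousComponent d G = 0 := by
        apply MvPolynomial.homogeneousComponent_eq_zero
        simp only [Finset.mem_range, not_lt] at hd
        omega
      rw [this, map_zero]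
  by_contra hcon
  push Not at hcon
  apply hG
  rw [← MvPolynomial.sum_homogeneousComponent G]
  refine Finset.sum_eq_zero fun d _ => ?_
  by_contra hd
  exact hcon d _ (MvPolynomial.homogeneousComponent_isHomogeneous d G) hd (key d)

end step1

section step1c

variable {k : Type u} [Field k] [IsAlgClosed k] {R : Type u} [CommRing R] [IsDomain R] [Algebra k R]

theorem eq_smul_of_homogeneous_relation (x y : R) (hy : y ≠ 0) (d : ℕ)
    (F : MvPolynomial (Fin 2) k) (hF : F.IsHomogeneous d) (hF0 : F ≠ 0)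
    (hrel : MvPolynomial.aeval ![x, y] F = 0) : ∃ c : k, x = c • y := by
  let K := FractionRing R
  let ι : R →+* K := algebraMap R K
  have hι : Function.Injective ι := IsFractionRing.injective R K
  have hιy : ι y ≠ 0 := fun h => hy (hι (by rw [h, map_zero]))
  set u : K := ι x / ι y with hu
  have hxu : ι x = u * ι y := by rw [hu, div_mul_cancel₀ _ hιy]
  have hdeg : ∀ s ∈ F.support, s 0 + s 1 = d := by
    intro s hs
    have h1 : s.degree = d := by
      rw [Finsupp.degree_eq_weight_one]; exact hF (MvPolynomial.mem_support_iff.mp hs)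
    rw [Finsupp.degree_eq_sum, Fin.sum_univ_two] at h1
    exact h1
  let p : k[X] := ∑ s ∈ F.support, monomial (s 0) (MvPolynomial.coeff s F)
  have hp0 : p ≠ 0 := by
    obtain ⟨s0, hs0⟩ := MvPolynomial.exists_coeff_ne_zero hF0
    have hs0' : s0 ∈ F.support := MvPolynomial.mem_support_iff.mpr hs0
    intro hp
    have h1 : p.coeff (s0 0) = 0 := by rw [hp]; simp
    simp only [p, finsetSum_coeff, coeff_monomial] at h1
    rw [Finset.sum_eq_single_of_mem s0 hs0'] at h1
    · simp at h1; exact hs0 h1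
    · intro s hs hne
      rw [if_neg]
      intro h
      apply hne
      have h2 := hdeg s hs
      have h3 := hdeg s0 hs0'
      ext i
      fin_cases i
      · exact h
      · simp only [Fin.mk_one]; omega
  have hpu : aeval u p = 0 := by
    have h1 : ι (MvPolynomial.aeval ![x, y] F) = 0 := by rw [hrel, map_zero]
    rw [F.as_sum, map_sum, map_sum] at h1
    have h2 : ∀ s ∈ F.support, ι (MvPolynomial.aeval ![x, y]
        (MvPolynomial.monomial s (MvPolynomial.coeff s F))) =
        ι y ^ d * aeval u (monomial (s 0) (MvPolynomial.coeff s F)) := by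
      intro s hs
      rw [MvPolynomial.aeval_monomial, aeval_monomial]
      have hp : s.prod (fun i e => ![x, y] i ^ e) = x ^ (s 0) * y ^ (s 1) := by
        rw [Finsupp.prod_fintype _ _ (by simp)]
        simp [Fin.prod_univ_two]
      rw [hp, map_mul, map_mul, map_pow, map_pow, hxu, ← hdeg s hs,
        ← IsScalarTower.algebraMap_apply k R K]
      ring
    rw [Finset.sum_congr rfl h2, ← Finset.mul_sum, ← map_sum] at h1
    rcases mul_eq_zero.mp h1 with h | h
    · exact absurd h (pow_ne_zero d hιy)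
    · exact h
  have hualg : IsAlgebraic k u := ⟨p, hp0, hpu⟩
  obtain ⟨c, hc⟩ := exists_algebraMap_eq_of_isAlgebraic u hualg
  refine ⟨c, hι ?_⟩
  rw [hxu, hc, Algebra.smul_def, map_mul, ← IsScalarTower.algebraMap_apply k R K]

end step1c

section step1d

variable {k : Type u} [Field k] [IsAlgClosed k] {R : Type u} [CommRing R] [IsDomain R] [Algebra k R]
  (𝒜 : ℤ → Submodule k R) [GradedAlgebra 𝒜]

theorem eq_smul_of_mem_of_ne [Algebra.FiniteType k R] (h1 : ringKrullDim R = 1)
    (n : ℤ) (hn : n ≠ 0) (x y : R) (hx : x ∈ 𝒜 n) (hy : y ∈ 𝒜 n) (hy0 : y ≠ 0) :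
    ∃ c : k, x = c • y := by
  have hninj : ¬ Function.Injective (MvPolynomial.aeval (R := k) ![x, y]) := by
    intro hinj
    have h2 := Groth.Agent.Lib.Helper9.DimTrdeg.le_ringKrullDim_of_injective k R 2 _ hinj
    rw [h1] at h2
    have : ((2 : ℕ) : ℕ∞) ≤ 1 := by exact_mod_cast h2
    norm_num at this
  have : ∃ G : MvPolynomial (Fin 2) k, G ≠ 0 ∧ MvPolynomial.aeval ![x, y] G = 0 := by
    by_contra hcon
    push Not at hcon
    apply hninj
    rw [injective_iff_map_eq_zero]
    intro G hG
    by_contra hG0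
    exact hcon G hG0 hG
  obtain ⟨G, hG, hG0⟩ := this
  obtain ⟨d, F, hF, hF0, hrel⟩ := exists_homogeneous_relation 𝒜 n hn x y hx hy G hG hG0
  exact eq_smul_of_homogeneous_relation x y hy0 d F hF hF0 hrel

theorem eq_smul_of_mem [Algebra.FiniteType k R] (h1 : ringKrullDim R = 1)
    (h0 : 𝒜 0 = Submodule.span k {(1 : R)})
    (n : ℤ) (x y : R) (hx : x ∈ 𝒜 n) (hy : y ∈ 𝒜 n) (hy0 : y ≠ 0) :
    ∃ c : k, x = c • y := by
  by_cases hn : n = 0
  · subst hn
    rw [h0, Submodule.mem_span_singleton] at hx hy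
    obtain ⟨a, rfl⟩ := hx
    obtain ⟨b, rfl⟩ := hy
    have hb : b ≠ 0 := by
      rintro rfl
      exact hy0 (zero_smul _ _)
    refine ⟨a / b, ?_⟩
    rw [smul_smul, div_mul_cancel₀ _ hb]
  · exact eq_smul_of_mem_of_ne 𝒜 h1 n hn x y hx hy hy0

end step1d

end Groth.Agent.Lib.Helper2.GD
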