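import Mathlib
import Groth.Agent.Lib.Helper2.Gor.GD1

set_option autoImplicit false
universe u
open Polynomial

namespace Groth.Agent.Lib.Helper2.GD

section step2

variable {k : Type u} [Field k] [IsAlgClosed k] {R : Type u} [CommRing R] [IsDomain R] [Algebra k R]
  (𝒜 : ℤ → Submodule k R) [GradedAlgebra 𝒜]

/-- the canonical map to the fraction field, as a `k`-algebra map -/
noncomputable abbrev iotaK : R →ₐ[k] FractionRing R := IsScalarTower.toAlgHom k R (FractionRing R)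

theorem iotaK_injective : Function.Injective (iotaK (k := k) (R := R)) :=
  IsFractionRing.injective R (FractionRing R)

theorem key_T (hP : ∀ n x y, x ∈ 𝒜 n → y ∈ 𝒜 n → y ≠ 0 → ∃ c : k, x = c • y)
    (p q : ℤ) (a b : R) (ha : a ∈ 𝒜 p) (hb : b ∈ 𝒜 q) (ha0 : a ≠ 0) (hb0 : b ≠ 0)
    (m : ℕ) (r : R) (hr : r ∈ 𝒜 ((q - p) * m)) :
    ∃ c : k, iotaK (k := k) r = c • (iotaK (k := k) b / iotaK (k := k) a) ^ m := by
  have h1 : r * a ^ m ∈ 𝒜 ((q - p) * m + m • p) :=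
    SetLike.mul_mem_graded hr (SetLike.pow_mem_graded m ha)
  have h2 : b ^ m ∈ 𝒜 (m • q) := SetLike.pow_mem_graded m hb
  have he : (q - p) * m + m • p = m • q := by simp; ring
  rw [he] at h1
  obtain ⟨c, hc⟩ := hP _ _ _ h1 h2 (pow_ne_zero m hb0)
  refine ⟨c, ?_⟩
  have h3 := congrArg (iotaK (k := k)) hc
  rw [map_mul, map_pow, map_smul, map_pow] at h3
  have hιa : iotaK (k := k) a ≠ 0 := fun h => ha0 (iotaK_injective (by rw [h, map_zero]))
  rw [div_pow, ← smul_div_assoc, eq_div_iff (pow_ne_zero m hιa)]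
  exact h3

theorem transcendental_T (p q : ℤ) (hpq : p ≠ q) (a b : R) (ha : a ∈ 𝒜 p) (hb : b ∈ 𝒜 q)
    (ha0 : a ≠ 0) (hb0 : b ≠ 0) :
    Transcendental k (iotaK (k := k) b / iotaK (k := k) a) := by
  intro halg
  obtain ⟨c, hc⟩ := exists_algebraMap_eq_of_isAlgebraic _ halg
  have hιa : iotaK (k := k) a ≠ 0 := fun h => ha0 (iotaK_injective (by rw [h, map_zero]))
  have hbc : b = c • a := by
    apply iotaK_injective (k := k)
    rw [map_smul, Algebra.smul_def, ← hc, div_mul_cancel₀ _ hιa]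
  have hbp : b ∈ 𝒜 p := hbc ▸ Submodule.smul_mem _ _ ha
  have h1 := DirectSum.decompose_of_mem_ne 𝒜 hbp hpq
  rw [DirectSum.decompose_of_mem_same 𝒜 hb] at h1
  exact hb0 h1

theorem exists_Psi (hP : ∀ n x y, x ∈ 𝒜 n → y ∈ 𝒜 n → y ≠ 0 → ∃ c : k, x = c • y)
    (p q : ℤ) (hpq : p ≠ q) (a b : R) (ha : a ∈ 𝒜 p) (hb : b ∈ 𝒜 q) (ha0 : a ≠ 0) (hb0 : b ≠ 0)
    (hdiv : ∀ n x, x ∈ 𝒜 n → x ≠ 0 → ∃ m : ℕ, n = (q - p) * m) :
    ∃ Ψ : R →ₐ[k] k[X], Function.Injective Ψ ∧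
      ∀ (m : ℕ) (r : R), r ∈ 𝒜 ((q - p) * m) → ∃ c : k, Ψ r = monomial m c := by
  let K := FractionRing R
  let ι : R →ₐ[k] K := iotaK
  set T : K := ι b / ι a with hTdef
  have hT : Transcendental k T := transcendental_T 𝒜 p q hpq a b ha hb ha0 hb0
  have hinj : Function.Injective (aeval T : k[X] →ₐ[k] K) := transcendental_iff_injective.mp hT
  have hkey : ∀ (m : ℕ) (r : R), r ∈ 𝒜 ((q - p) * m) → ∃ c : k, ι r = c • T ^ m :=
    fun m r hr => key_T 𝒜 hP p q a b ha hb ha0 hb0 m r hr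
  have hmem : ∀ r, ι r ∈ (aeval T : k[X] →ₐ[k] K).range := by
    intro r
    induction r using DirectSum.Decomposition.inductionOn 𝒜 with
    | zero => rw [map_zero]; exact zero_mem _
    | @homogeneous i x =>
      by_cases hx : (x : R) = 0
      · rw [hx, map_zero]; exact zero_mem _
      · obtain ⟨m, hm⟩ := hdiv i x x.2 hx
        obtain ⟨c, hc⟩ := hkey m x (hm ▸ x.2)
        refine ⟨monomial m c, ?_⟩
        rw [hc]
        simp [aeval_monomial, Algebra.smul_def]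
    | add x y hx hy => rw [map_add]; exact add_mem hx hy
  let e := AlgEquiv.ofInjective (aeval T : k[X] →ₐ[k] K) hinj
  let Ψ : R →ₐ[k] k[X] := (e.symm : _ →ₐ[k] _).comp (ι.codRestrict _ hmem)
  have hΨ : ∀ r, aeval T (Ψ r) = ι r := by
    intro r
    have h1 : e (Ψ r) = ⟨ι r, hmem r⟩ := e.apply_symm_apply _
    exact congrArg Subtype.val h1
  refine ⟨Ψ, ?_, ?_⟩
  · intro r s h
    apply iotaK_injective (k := k)
    change ι r = ι s
    rw [← hΨ, ← hΨ, h]
  · intro m r hr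
    obtain ⟨c, hc⟩ := hkey m r hr
    refine ⟨c, hinj ?_⟩
    rw [hΨ, hc, aeval_monomial, ← Algebra.smul_def]

theorem range_Psi (g : ℤ) (Ψ : R →ₐ[k] k[X]) (hΨinj : Function.Injective Ψ)
    (hΨmon : ∀ (m : ℕ) (r : R), r ∈ 𝒜 (g * m) → ∃ c : k, Ψ r = monomial m c)
    (hdiv : ∀ n x, x ∈ 𝒜 n → x ≠ 0 → ∃ m : ℕ, n = g * m)
    (H' : AddSubmonoid ℕ) (hH' : ∀ m : ℕ, m ∈ H' ↔ ∃ x ∈ 𝒜 (g * m), x ≠ 0) :
    (Ψ.range : Set k[X]) = {q | ∀ n, q.coeff n ≠ 0 → n ∈ H'} := by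
  ext q
  constructor
  · rintro ⟨r, rfl⟩
    change ∀ n, (Ψ r).coeff n ≠ 0 → n ∈ H'
    induction r using DirectSum.Decomposition.inductionOn 𝒜 with
    | zero => intro n hn; simp at hn
    | @homogeneous i x =>
      intro n hn
      by_cases hx : (x : R) = 0
      · rw [hx, map_zero] at hn; simp at hn
      · obtain ⟨m, hm⟩ := hdiv i x x.2 hx
        obtain ⟨c, hc⟩ := hΨmon m x (hm ▸ x.2)
        rw [hc, coeff_monomial] at hn
        have hmn : m = n := by
          by_contra h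
          rw [if_neg h] at hn
          exact hn rfl
        rw [← hmn, hH']
        exact ⟨x, hm ▸ x.2, hx⟩
    | add x y hx hy =>
      intro n hn
      rw [map_add, coeff_add] at hn
      by_cases h : (Ψ x).coeff n = 0
      · rw [h, zero_add] at hn
        exact hy n hn
      · exact hx n h
  · intro hq
    rw [SetLike.mem_coe, q.as_sum_support]
    refine Subalgebra.sum_mem _ fun n hn => ?_
    have hn' := hq n (mem_support_iff.1 hn)
    rw [hH'] at hn'
    obtain ⟨x, hx, hx0⟩ := hn'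
    obtain ⟨c, hc⟩ := hΨmon n x hx
    have hc0 : c ≠ 0 := by
      rintro rfl
      rw [monomial_zero_right] at hc
      exact hx0 (hΨinj (by rw [hc, map_zero]))
    refine ⟨(q.coeff n / c) • x, ?_⟩
    change Ψ ((q.coeff n / c) • x) = _
    rw [map_smul, hc, smul_monomial, smul_eq_mul, div_mul_cancel₀ _ hc0]

end step2

end Groth.Agent.Lib.Helper2.GD
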