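import Mathlib
import Groth.Agent.Lib.Helper2.Gor.GD2

set_option autoImplicit false
universe u
open Polynomial

namespace Groth.Agent.Lib.Helper2.GD

section step3

variable {k : Type u} [Field k] {R : Type u} [CommRing R] [IsDomain R] [Algebra k R]
  (𝒜 : ℤ → Submodule k R) [GradedAlgebra 𝒜]

theorem exists_pos (hpos : ∀ n : ℤ, n < 0 → 𝒜 n = ⊥) (h0 : 𝒜 0 = Submodule.span k {(1 : R)})
    (h1 : ringKrullDim R = 1) : ∃ n : ℤ, 0 < n ∧ ∃ x ∈ 𝒜 n, x ≠ 0 := by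
  by_contra hcon
  push Not at hcon
  have hall : ∀ r : R, r ∈ 𝒜 0 := by
    intro r
    induction r using DirectSum.Decomposition.inductionOn 𝒜 with
    | zero => exact zero_mem _
    | @homogeneous i x =>
      rcases lt_trichotomy i 0 with hi | hi | hi
      · have h2 : (x : R) ∈ (⊥ : Submodule k R) := hpos i hi ▸ x.2
        rw [Submodule.mem_bot] at h2
        rw [h2]; exact zero_mem _
      · exact hi ▸ x.2
      · rw [hcon i hi x x.2]; exact zero_mem _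
    | add x y hx hy => exact add_mem hx hy
  have hsurj : Function.Surjective (algebraMap k R) := by
    intro r
    have := hall r
    rw [h0, Submodule.mem_span_singleton] at this
    obtain ⟨c, hc⟩ := this
    exact ⟨c, by rw [Algebra.algebraMap_eq_smul_one, hc]⟩
  have h2 := ringKrullDim_le_of_surjective (algebraMap k R) hsurj
  rw [h1, ringKrullDim_eq_zero_of_field] at h2
  exact absurd h2 (by norm_num)

/-- the group of degree differences -/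
def diffGroup : AddSubgroup ℤ where
  carrier := {z | ∃ p q : ℤ, (∃ x ∈ 𝒜 p, x ≠ 0) ∧ (∃ x ∈ 𝒜 q, x ≠ 0) ∧ z = q - p}
  zero_mem' := ⟨0, 0, ⟨1, SetLike.GradedOne.one_mem, one_ne_zero⟩,
    ⟨1, SetLike.GradedOne.one_mem, one_ne_zero⟩, by simp⟩
  add_mem' := by
    rintro _ _ ⟨p, q, ⟨a, ha, ha0⟩, ⟨b, hb, hb0⟩, rfl⟩ ⟨p', q', ⟨a', ha', ha0'⟩, ⟨b', hb', hb0'⟩, rfl⟩
    exact ⟨p + p', q + q', ⟨a * a', SetLike.mul_mem_graded ha ha', mul_ne_zero ha0 ha0'⟩,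
      ⟨b * b', SetLike.mul_mem_graded hb hb', mul_ne_zero hb0 hb0'⟩, by ring⟩
  neg_mem' := by
    rintro _ ⟨p, q, hp, hq, rfl⟩
    exact ⟨q, p, hq, hp, by ring⟩

theorem exists_gen (hpos : ∀ n : ℤ, n < 0 → 𝒜 n = ⊥) (h0 : 𝒜 0 = Submodule.span k {(1 : R)})
    (h1 : ringKrullDim R = 1) :
    ∃ (p q : ℤ) (a b : R), a ∈ 𝒜 p ∧ b ∈ 𝒜 q ∧ a ≠ 0 ∧ b ≠ 0 ∧ 0 < q - p ∧
      ∀ n x, x ∈ 𝒜 n → x ≠ 0 → ∃ m : ℕ, n = (q - p) * m := by
  obtain ⟨g0, hg0⟩ := Int.subgroup_cyclic (diffGroup 𝒜)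
  obtain ⟨n0, hn0, x0, hx0, hx00⟩ := exists_pos 𝒜 hpos h0 h1
  have hmemD : ∀ n x, x ∈ 𝒜 n → x ≠ 0 → n ∈ diffGroup 𝒜 := by
    intro n x hx hx0
    exact ⟨0, n, ⟨1, SetLike.GradedOne.one_mem, one_ne_zero⟩, ⟨x, hx, hx0⟩, by simp⟩
  have hdvd : ∀ n x, x ∈ 𝒜 n → x ≠ 0 → g0 ∣ n := by
    intro n x hx hx0
    have := hmemD n x hx hx0
    rw [hg0, AddSubgroup.mem_closure_singleton] at this
    obtain ⟨m, hm⟩ := this
    exact ⟨m, by rw [← hm]; simp [mul_comm]⟩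
  have hg00 : g0 ≠ 0 := by
    rintro rfl
    have := hdvd n0 x0 hx0 hx00
    rw [zero_dvd_iff] at this
    omega
  have habs : |g0| ∈ diffGroup 𝒜 := by
    have hg : g0 ∈ diffGroup 𝒜 := by
      rw [hg0]; exact AddSubgroup.subset_closure rfl
    rcases abs_choice g0 with h | h
    · rw [h]; exact hg
    · rw [h]; exact neg_mem hg
  obtain ⟨p, q, ⟨a, ha, ha0⟩, ⟨b, hb, hb0⟩, hqp⟩ := habs
  refine ⟨p, q, a, b, ha, hb, ha0, hb0, ?_, ?_⟩
  · rw [← hqp]; exact abs_pos.mpr hg00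
  · intro n x hx hx0
    have hn : 0 ≤ n := by
      by_contra hneg
      push Not at hneg
      rw [hpos n hneg, Submodule.mem_bot] at hx
      exact hx0 hx
    have h2 : |g0| ∣ n := (abs_dvd g0 n).mpr (hdvd n x hx hx0)
    rw [← hqp]
    obtain ⟨m, hm⟩ := h2
    have hgpos : 0 < |g0| := abs_pos.mpr hg00
    have hm0 : 0 ≤ m := by
      by_contra hneg
      push Not at hneg
      have : |g0| * m < 0 := mul_neg_of_pos_of_neg hgpos hneg
      omega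
    exact ⟨m.toNat, by rw [Int.toNat_of_nonneg hm0]; exact hm⟩

end step3

section step4

variable {k : Type u} [Field k] [IsAlgClosed k] {R : Type u} [CommRing R] [IsDomain R] [Algebra k R]
  (𝒜 : ℤ → Submodule k R) [GradedAlgebra 𝒜]

/-- the rescaled degree monoid -/
def degMon (g : ℤ) : AddSubmonoid ℕ where
  carrier := {m | ∃ x ∈ 𝒜 (g * m), x ≠ 0}
  zero_mem' := ⟨1, by simpa using (SetLike.GradedOne.one_mem : (1 : R) ∈ 𝒜 0), one_ne_zero⟩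
  add_mem' := by
    rintro m m' ⟨x, hx, hx0⟩ ⟨y, hy, hy0⟩
    refine ⟨x * y, ?_, mul_ne_zero hx0 hy0⟩
    have := SetLike.mul_mem_graded hx hy
    have he : g * (m : ℤ) + g * (m' : ℤ) = g * ((m + m' : ℕ) : ℤ) := by push_cast; ring
    rw [he] at this
    exact this

theorem main (hpos : ∀ n : ℤ, n < 0 → 𝒜 n = ⊥) (h0 : 𝒜 0 = Submodule.span k {(1 : R)})
    [Algebra.FiniteType k R] (h1 : ringKrullDim R = 1) :
    ∃ (H' : AddSubmonoid ℕ) (Ψ : R →ₐ[k] k[X]), Function.Injective Ψ ∧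
      (Ψ.range : Set k[X]) = {q | ∀ n, q.coeff n ≠ 0 → n ∈ H'} ∧
      ((∃ x ∈ 𝒜 1, x ≠ 0) → H' = ⊤) := by
  have hP := eq_smul_of_mem 𝒜 h1 h0
  obtain ⟨p, q, a, b, ha, hb, ha0, hb0, hg, hdiv⟩ := exists_gen 𝒜 hpos h0 h1
  have hpq : p ≠ q := by omega
  obtain ⟨Ψ, hΨinj, hΨmon⟩ := exists_Psi 𝒜 hP p q hpq a b ha hb ha0 hb0 hdiv
  refine ⟨degMon 𝒜 (q - p), Ψ, hΨinj, ?_, ?_⟩
  · exact range_Psi 𝒜 (q - p) Ψ hΨinj hΨmon hdiv (degMon 𝒜 (q - p)) (fun m => Iff.rfl)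
  · rintro ⟨x, hx, hx0⟩
    obtain ⟨m, hm⟩ := hdiv 1 x hx hx0
    have hm1 : q - p = 1 ∧ (m : ℤ) = 1 := by
      have h2 : (q - p) ∣ 1 := ⟨m, hm⟩
      have h3 : q - p = 1 := Int.eq_one_of_dvd_one hg.le h2
      rw [h3, one_mul] at hm
      exact ⟨h3, hm.symm⟩
    have h1mem : 1 ∈ degMon 𝒜 (q - p) := by
      refine ⟨x, ?_, hx0⟩
      rw [hm1.1]; simpa using hx
    rw [eq_top_iff]
    intro n _
    have := AddSubmonoid.nsmul_mem _ h1mem n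
    simpa using this

end step4

end Groth.Agent.Lib.Helper2.GD
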