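import Mathlib
import Groth.Agent.Lib.Helper2.FunFld.GS8

set_option autoImplicit false
open scoped WithZero
open FunFld Polynomial W4c6gradedringsgw

namespace Groth.Agent.Lib.Helper2.GS

open Groth.Agent.Lib.Helper2.FF

/-- weak Nullstellensatz: maximal ideals of finite type algebras over an algebraically closed
field are kernels of points -/
theorem exists_algHom_ker_eq (k B : Type*) [Field k] [IsAlgClosed k] [CommRing B] [Algebra k B]
    [Algebra.FiniteType k B] (m : Ideal B) [hm : m.IsMaximal] :
    ∃ χ : B →ₐ[k] k, RingHom.ker (χ : B →+* k) = m := by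
  letI := Ideal.Quotient.field m
  haveI : Algebra.FiniteType k (B ⧸ m) :=
    Algebra.FiniteType.of_surjective (Ideal.Quotient.mkₐ k m) (Ideal.Quotient.mkₐ_surjective k m)
  haveI : Module.Finite k (B ⧸ m) := finite_of_finite_type_of_isJacobsonRing k (B ⧸ m)
  haveI : Algebra.IsIntegral k (B ⧸ m) := Algebra.IsIntegral.of_finite k _
  have hbij : Function.Bijective (algebraMap k (B ⧸ m)) :=
    IsAlgClosed.algebraMap_bijective_of_isIntegral
  let e : k ≃ₐ[k] (B ⧸ m) := AlgEquiv.ofBijective (Algebra.ofId k _) hbij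
  refine ⟨(e.symm : (B ⧸ m) →ₐ[k] k).comp (Ideal.Quotient.mkₐ k m), ?_⟩
  ext x
  rw [RingHom.mem_ker]
  change e.symm (Ideal.Quotient.mk m x) = 0 ↔ x ∈ m
  rw [← Ideal.Quotient.eq_zero_iff_mem]
  exact e.symm.map_eq_zero_iff

variable {k K : Type*} [Field k] [Field K] [Algebra k K]

section

variable (hK : IsFunctionField k K) (P : FunFld.Place k K) (hP : P.deg = 1) {π : K}
  (hπ : v P π = WithZero.exp (-1 : ℤ))

include hπ in
theorem monoR_mem_adjoin (n : ℕ) : ∀ (z : K) (hz : z ∈ L (nP P (n : ℤ))),
    monoR P n z hz ∈ Algebra.adjoin k (insert (tOne hK P)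
      (Fgen P hP π '' minGens (poleOrders P))) := by
  set 𝒜 := Algebra.adjoin k (insert (tOne hK P) (Fgen P hP π '' minGens (poleOrders P))) with h𝒜
  have ht : tOne hK P ∈ 𝒜 := Algebra.subset_adjoin (Set.mem_insert _ _)
  induction n using Nat.strong_induction_on with
  | _ n ih =>
    intro z hz
    rcases n with _ | n
    · have h1 : nP P ((0 : ℕ) : ℤ) = 0 := by simp [nP]
      have hz' := hz
      rw [h1, L_zero hK, Submodule.one_eq_range, LinearMap.mem_range] at hz'
      obtain ⟨c, hc⟩ := hz'
      have : monoR P 0 z hz = algebraMap k _ c := by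
        apply Subtype.ext
        change (monomial 0 z : K[X]) = algebraMap k K[X] c
        rw [monomial_zero_left, Polynomial.algebraMap_apply, ← hc, Algebra.linearMap_apply]
      rw [this]
      exact Subalgebra.algebraMap_mem _ _
    · have claimA : ∀ (z' : K) (hz' : z' ∈ L (nP P ((n + 1 : ℕ) : ℤ))),
          rho P hP (z' * π ^ (n + 1)) = 0 → monoR P (n + 1) z' hz' ∈ 𝒜 := by
        intro z' hz' h0
        have h1 := (mem_L_nP_iff P z' _).1 hz'
        have h2 : v P (z' * π ^ (n + 1)) ≤ 1 := (v_mul_pow_le_iff P hπ z' (n + 1)).2 h1.1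
        have h3 := (rho_eq_zero_iff P hP h2).1 h0
        rw [v_mul_pow_lt_iff P hπ] at h3
        have h4 : v P z' ≤ WithZero.exp (n : ℤ) := by
          rw [← lt_exp_succ_iff]
          exact_mod_cast h3
        have hzn : z' ∈ L (nP P (n : ℤ)) := (mem_L_nP_iff P z' _).2 ⟨h4, h1.2⟩
        rw [monoR_succ hK P n z' hzn]
        exact Subalgebra.mul_mem _ ht (ih n (by omega) z' hzn)
      by_cases h0 : rho P hP (z * π ^ (n + 1)) = 0
      · exact claimA z hz h0
      · have hzi : v P (z * π ^ (n + 1)) ≤ 1 :=
          (v_mul_pow_le_iff P hπ z (n + 1)).2 ((mem_L_nP_iff P z _).1 hz).1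
        have hv := (rho_ne_zero_iff P hP hzi).1 h0
        rw [v_mul_pow_eq_iff P hπ] at hv
        have hnH : n + 1 ∈ poleOrders P := (mem_poleOrders_iff hK P hP _).2 ⟨z, hz, hv⟩
        -- a witness
        obtain ⟨w, hw, hw1, hwA⟩ : ∃ (w : K) (hw : w ∈ L (nP P ((n + 1 : ℕ) : ℤ))),
            rho P hP (w * π ^ (n + 1)) = 1 ∧ monoR P (n + 1) w hw ∈ 𝒜 := by
          by_cases hG : n + 1 ∈ minGens (poleOrders P)
          · exact ⟨zc P hP π (n + 1), zc_mem P hP _, rho_zc hK P hP hπ hnH,
              Algebra.subset_adjoin (Set.mem_insert_of_mem _ ⟨n + 1, hG, rfl⟩)⟩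
          · have hex : ∃ a ∈ poleOrders P, ∃ b ∈ poleOrders P, a ≠ 0 ∧ b ≠ 0 ∧ a + b = n + 1 := by
              by_contra hcon
              apply hG
              refine ⟨hnH, by omega, fun a ha b hb ha0 hb0 hab =>
                hcon ⟨a, ha, b, hb, ha0, hb0, hab⟩⟩
            obtain ⟨a, ha, b, hb, ha0, hb0, hab⟩ := hex
            have hwL : zc P hP π a * zc P hP π b ∈ L (nP P ((n + 1 : ℕ) : ℤ)) := by
              have := mul_mem_L_nP P (zc_mem P hP (π := π) a) (zc_mem P hP (π := π) b)
              rwa [hab] at this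
            have hai : v P (zc P hP π a * π ^ a) ≤ 1 :=
              (v_mul_pow_le_iff P hπ _ _).2 ((mem_L_nP_iff P _ _).1 (zc_mem P hP a)).1
            have hbi : v P (zc P hP π b * π ^ b) ≤ 1 :=
              (v_mul_pow_le_iff P hπ _ _).2 ((mem_L_nP_iff P _ _).1 (zc_mem P hP b)).1
            refine ⟨zc P hP π a * zc P hP π b, hwL, ?_, ?_⟩
            · have : zc P hP π a * zc P hP π b * π ^ (n + 1) =
                  (zc P hP π a * π ^ a) * (zc P hP π b * π ^ b) := by
                rw [← hab, pow_add]; ring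
              rw [this, rho_mul P hP hai hbi, rho_zc hK P hP hπ ha, rho_zc hK P hP hπ hb, one_mul]
            · have h5 : monoR P (n + 1) (zc P hP π a * zc P hP π b) hwL =
                  monoR P a (zc P hP π a) (zc_mem P hP _) *
                    monoR P b (zc P hP π b) (zc_mem P hP _) := by
                apply Subtype.ext
                change (monomial (n + 1) (zc P hP π a * zc P hP π b) : K[X]) =
                  monomial a (zc P hP π a) * monomial b (zc P hP π b)
                rw [monomial_mul_monomial, hab]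
              rw [h5]
              exact Subalgebra.mul_mem _ (ih a (by omega) _ _) (ih b (by omega) _ _)
        set c : k := rho P hP (z * π ^ (n + 1)) with hc
        have hwi : v P (w * π ^ (n + 1)) ≤ 1 :=
          (v_mul_pow_le_iff P hπ w (n + 1)).2 ((mem_L_nP_iff P w _).1 hw).1
        have hd : z - c • w ∈ L (nP P ((n + 1 : ℕ) : ℤ)) :=
          sub_mem hz (Submodule.smul_mem _ c hw)
        have h0' : rho P hP ((z - c • w) * π ^ (n + 1)) = 0 := by
          have : (z - c • w) * π ^ (n + 1) = z * π ^ (n + 1) - c • (w * π ^ (n + 1)) := by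
            rw [sub_mul, smul_mul_assoc]
          rw [this, rho_sub P hP hzi ((v_smul_le P c _).trans hwi), rho_smul P hP c hwi, hw1,
            mul_one, ← hc, sub_self]
        have h1 := claimA _ hd h0'
        have h2 : monoR P (n + 1) z hz =
            c • monoR P (n + 1) w hw + monoR P (n + 1) (z - c • w) hd := by
          apply Subtype.ext
          change (monomial (n + 1) z : K[X]) =
            c • monomial (n + 1) w + monomial (n + 1) (z - c • w)
          rw [smul_monomial, ← map_add]
          congr 1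
          ring
        rw [h2]
        exact Subalgebra.add_mem _ (Subalgebra.smul_mem _ hwA c) h1

include hπ in
theorem adjoin_gens_eq_top :
    Algebra.adjoin k (insert (tOne hK P) (Fgen P hP π '' minGens (poleOrders P))) = ⊤ := by
  rw [eq_top_iff]
  intro p _
  rw [eq_sum_monoR P p]
  exact Subalgebra.sum_mem _ fun n _ => monoR_mem_adjoin hK P hP hπ n _ _

include hK hP in
theorem finiteType_sectRing (hg : 0 < genus k K) :
    Algebra.FiniteType k (sectRing (Finsupp.single P 1 : Divisor k K)) := by
  obtain ⟨π, hπ⟩ := exists_uniformizer P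
  refine ⟨Subalgebra.fg_def.2 ⟨_, ?_, adjoin_gens_eq_top hK P hP hπ⟩⟩
  exact ((finite_minGens hK P hP hg).image _).insert _

include hK hP in
theorem isNoetherianRing_sectRing (hg : 0 < genus k K) :
    IsNoetherianRing (sectRing (Finsupp.single P 1 : Divisor k K)) := by
  haveI := finiteType_sectRing hK P hP hg
  exact Algebra.FiniteType.isNoetherianRing k _

end

end Groth.Agent.Lib.Helper2.GS
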