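import Mathlib
import Groth.Agent.Lib.Helper2.Gor.GK2
import Groth.Agent.Lib.Helper2.FunFld.IntCl2

set_option autoImplicit false
open scoped WithZero
open FunFld Polynomial W4c6gradedringsgw

namespace Groth.Agent.Lib.Helper2.GS

open Groth.Agent.Lib.Helper2.FF

variable {k K : Type*} [Field k] [Field K] [Algebra k K]

/-- the ring of functions regular away from `P` -/
def holo (P : FunFld.Place k K) : Subalgebra k K where
  carrier := {z | ∀ Q : FunFld.Place k K, Q ≠ P → v Q z ≤ 1}
  mul_mem' {z w} hz hw Q hQ := by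
    rw [map_mul]; exact mul_le_one' (hz Q hQ) (hw Q hQ)
  add_mem' {z w} hz hw Q hQ := (Valuation.map_add _ _ _).trans (max_le (hz Q hQ) (hw Q hQ))
  algebraMap_mem' c Q _ := v_algebraMap_le Q c

theorem mem_holo_iff (P : FunFld.Place k K) (z : K) :
    z ∈ holo P ↔ ∀ Q : FunFld.Place k K, Q ≠ P → v Q z ≤ 1 := Iff.rfl

theorem mem_holo_of_mem_L (P : FunFld.Place k K) {z : K} {n : ℤ} (hz : z ∈ L (nP P n)) :
    z ∈ holo P := ((mem_L_nP_iff P z n).1 hz).2

theorem exists_mem_L_of_mem_holo (P : FunFld.Place k K) {z : K} (hz : z ∈ holo P) :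
    ∃ n : ℕ, z ∈ L (nP P (n : ℤ)) := by
  by_cases hz0 : z = 0
  · exact ⟨0, by rw [hz0]; exact zero_mem _⟩
  · refine ⟨(-P.ord z).toNat, ?_⟩
    rw [mem_L_nP_iff]
    refine ⟨?_, hz⟩
    rw [v_le_exp_iff P hz0]
    omega

section

variable (hK : IsFunctionField k K) (P : FunFld.Place k K) (hP : P.deg = 1)

include hK hP in
/-- every element of `K` is a quotient of elements regular away from `P` -/
theorem exists_holo_div (z : K) : ∃ x y : holo P, z = algebraMap (holo P) K x / algebraMap (holo P) K y := by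
  classical
  set D : Divisor k K := pdiv (k := k) z with hD
  have hD0 : (0 : Divisor k K) ≤ D := pdiv_nonneg z
  set N : ℕ := (D.deg + genus k K).toNat with hN
  set E : Divisor k K := nP P (N : ℤ) - D with hE
  have hdegE : E.deg = (N : ℤ) - D.deg := by
    rw [hE, deg_sub, deg_nP, hP]; push_cast; ring
  have hell : 0 < ell E := by
    have h1 := (riemann hK).1 E
    have : (0 : ℤ) < ell E := by
      rw [hdegE] at h1
      omega
    exact_mod_cast this
  obtain ⟨y, hy0, hyE⟩ := exists_ne_zero_mem_L hK hell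
  have hyholo : y ∈ holo P := by
    intro Q hQ
    have h1 := hyE Q
    have h2 : E Q = -D Q := by
      rw [hE, Finsupp.sub_apply, Finsupp.single_apply, if_neg (Ne.symm hQ), zero_sub]
    rw [h2] at h1
    refine h1.trans ?_
    rw [← WithZero.exp_zero, WithZero.exp_le_exp]
    have := hD0 Q
    simp only [Finsupp.coe_zero, Pi.zero_apply] at this
    omega
  have hyz : y * z ∈ L (nP P (N : ℤ)) := by
    have h1 := FF.mul_mem_L hyE (mem_L_pdiv hK z)
    have h2 : E + pdiv (k := k) z = nP P (N : ℤ) := by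
      rw [hE, hD]; abel
    rwa [h2] at h1
  refine ⟨⟨y * z, mem_holo_of_mem_L P hyz⟩, ⟨y, hyholo⟩, ?_⟩
  change z = y * z / y
  field_simp

include hK hP in
theorem isFractionRing_holo : IsFractionRing (holo P) K :=
  IsFractionRing.of_field (holo P) K (exists_holo_div hK P hP)

theorem mem_holo_of_isIntegral {x : K} (hx : IsIntegral (holo P) x) : x ∈ holo P := by
  intro Q hQ
  exact v_le_one_of_isIntegral (v Q) (fun r : holo P => r.2 Q hQ) hx

end

end Groth.Agent.Lib.Helper2.GS
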