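import Mathlib
import Groth.Agent.Lib.Helper2.Gor.GK9

set_option autoImplicit false
open scoped WithZero
open FunFld Polynomial W4c6gradedringsgw

namespace Groth.Agent.Lib.Helper2.GS

open Groth.Agent.Lib.Helper2.FF

variable {k K : Type*} [Field k] [Field K] [Algebra k K]

section

variable (hK : IsFunctionField k K) (P : FunFld.Place k K) (hP : P.deg = 1)

include hK in
/-- an element regular everywhere is constant -/
theorem exists_eq_algebraMap_of_mem_holo {x : K} (hx : x ∈ holo P) (hxP : v P x ≤ 1) :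
    ∃ c : k, x = algebraMap k K c := by
  have h1 : x ∈ L (0 : Divisor k K) := by
    intro Q
    rw [Finsupp.zero_apply, WithZero.exp_zero]
    by_cases hQ : Q = P
    · rw [hQ]; exact hxP
    · exact hx Q hQ
  rw [L_zero hK, Submodule.one_eq_range, LinearMap.mem_range] at h1
  obtain ⟨c, hc⟩ := h1
  exact ⟨c, by rw [← hc, Algebra.linearMap_apply]⟩

include hK hP in
/-- reduction modulo a nonzero element with a pole of order `e` at `P` -/
theorem exists_reduction {x : K} (hx : x ∈ holo P) {e : ℕ} (hxe : v P x = WithZero.exp (e : ℤ)) :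
    ∀ (n : ℕ) (z : K), z ∈ L (nP P (n : ℤ)) →
      ∃ w ∈ L (nP P ((e + 2 * genus k K : ℕ) : ℤ)), ∃ b ∈ holo P, z - w = x * b := by
  classical
  have hx0 : x ≠ 0 := by
    rintro rfl
    rw [map_zero] at hxe
    exact WithZero.exp_ne_zero hxe.symm
  have hxL : x ∈ L (nP P (e : ℤ)) := (mem_L_nP_iff P x _).2 ⟨hxe.le, hx⟩
  intro n
  induction n with
  | zero =>
    intro z hz
    refine ⟨z, L_mono ?_ hz, 0, zero_mem _, by simp⟩
    intro Q
    simp only [nP, Finsupp.single_apply]
    split_ifs
    · push_cast; positivity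
    · exact le_rfl
  | succ n ih =>
    intro z hz
    by_cases hle : n + 1 ≤ e + 2 * genus k K
    · refine ⟨z, L_mono ?_ hz, 0, zero_mem _, by simp⟩
      intro Q
      simp only [nP, Finsupp.single_apply]
      split_ifs
      · exact_mod_cast hle
      · exact le_rfl
    · push Not at hle
      have hd : 2 * genus k K ≤ n + 1 - e := by omega
      obtain ⟨y, hyL, hyv⟩ := (mem_poleOrders_iff hK P hP _).1 (mem_poleOrders_of_ge hK P hP hd)
      have hy0 : y ≠ 0 := by
        rintro rfl
        rw [map_zero] at hyv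
        exact WithZero.exp_ne_zero hyv.symm
      have hxy0 : x * y ≠ 0 := mul_ne_zero hx0 hy0
      have hxyL : x * y ∈ L (nP P ((n + 1 : ℕ) : ℤ)) := by
        have := mul_mem_L_nP P hxL hyL
        have e1 : e + (n + 1 - e) = n + 1 := by omega
        rwa [e1] at this
      have hxyo : P.ord (x * y) = -(nP P ((n + 1 : ℕ) : ℤ)) P := by
        rw [nP_apply_self, ord_eq_iff P hxy0, map_mul, hxe, hyv, ← WithZero.exp_add, neg_neg]
        congr 1
        omega
      obtain ⟨a, ha⟩ := exists_sub_smul_mem_L P hP hxy0 hxyL hxyo hz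
      rw [nP_sub_one] at ha
      have e2 : (((n + 1 : ℕ) : ℤ) - 1) = (n : ℤ) := by push_cast; ring
      rw [e2] at ha
      obtain ⟨w, hw, b, hb, hzw⟩ := ih _ ha
      refine ⟨w, hw, b + a • y, ?_, ?_⟩
      · exact add_mem hb (Subalgebra.smul_mem _ (mem_holo_of_mem_L P hyL) a)
      · rw [mul_add, ← hzw, mul_smul_comm]
        ring

include hK hP in
/-- nonzero primes of the holomorphy ring are maximal -/
theorem isMaximal_of_prime_holo (p : Ideal (holo P)) [hp : p.IsPrime] (hp0 : p ≠ ⊥) :
    p.IsMaximal := by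
  obtain ⟨x, hxp, hx0⟩ := Submodule.exists_mem_ne_zero_of_ne_bot hp0
  have hx0' : (x : K) ≠ 0 := fun h => hx0 (Subtype.ext h)
  -- the pole order of x at P
  have hpole : ¬ v P (x : K) ≤ 1 := by
    intro hle
    obtain ⟨c, hc⟩ := exists_eq_algebraMap_of_mem_holo hK P x.2 hle
    have hc0 : c ≠ 0 := by
      rintro rfl
      rw [map_zero] at hc
      exact hx0' hc
    have hunit : IsUnit x := by
      have : x = algebraMap k (holo P) c := Subtype.ext hc
      rw [this]
      exact (IsUnit.mk0 c hc0).map (algebraMap k (holo P))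
    exact hp.ne_top (Ideal.eq_top_of_isUnit_mem _ hxp hunit)
  obtain ⟨e, he⟩ : ∃ e : ℕ, v P (x : K) = WithZero.exp (e : ℤ) := by
    refine ⟨(-P.ord (x : K)).toNat, ?_⟩
    rw [v_eq_exp_neg_ord P hx0']
    congr 1
    have : P.ord (x : K) < 0 := by
      rw [← one_lt_v_iff P hx0']
      exact not_le.1 hpole
    omega
  set N : ℕ := e + 2 * genus k K with hN
  -- the quotient is finite dimensional
  let ι : L (nP P (N : ℤ)) →ₗ[k] holo P :=
    LinearMap.codRestrict (Subalgebra.toSubmodule (holo P)) (L (nP P (N : ℤ))).subtype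
      (fun w => mem_holo_of_mem_L P w.2)
  let f : L (nP P (N : ℤ)) →ₗ[k] (holo P ⧸ p) := (Ideal.Quotient.mkₐ k p).toLinearMap ∘ₗ ι
  have hf : Function.Surjective f := by
    intro t
    obtain ⟨z, rfl⟩ := Ideal.Quotient.mk_surjective t
    obtain ⟨n, hn⟩ := exists_mem_L_of_mem_holo P z.2
    obtain ⟨w, hw, b, hb, hzw⟩ := exists_reduction hK P hP x.2 he n z hn
    refine ⟨⟨w, hw⟩, ?_⟩
    change Ideal.Quotient.mk p (ι ⟨w, hw⟩) = Ideal.Quotient.mk p z
    rw [eq_comm, Ideal.Quotient.eq]
    have : z - ι ⟨w, hw⟩ = x * ⟨b, hb⟩ := Subtype.ext hzw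
    rw [this]
    exact Ideal.mul_mem_right _ _ hxp
  have := finiteDimensional_L hK (nP P (N : ℤ))
  have : Module.Finite k (holo P ⧸ p) := Module.Finite.of_surjective f hf
  have : Algebra.IsIntegral k (holo P ⧸ p) := Algebra.IsIntegral.of_finite k _
  exact Ideal.Quotient.maximal_of_isField p
    (isField_of_isIntegral_of_isField' (Field.toIsField k))

end

end Groth.Agent.Lib.Helper2.GS
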