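import Mathlib
import Groth.Agent.Lib.Helper2.Gor.GK10

set_option autoImplicit false
open scoped WithZero
open FunFld Polynomial W4c6gradedringsgw

namespace Groth.Agent.Lib.Helper2.GS

open Groth.Agent.Lib.Helper2.FF

variable {k K : Type*} [Field k] [Field K] [Algebra k K]

section

variable (hK : IsFunctionField k K) (P : FunFld.Place k K) (hP : P.deg = 1)

/-- evaluation of the section ring at `T = c` -/
noncomputable def evK (c : k) : sectRing (Finsupp.single P 1 : Divisor k K) →ₐ[k] K :=
  ((Polynomial.aeval (algebraMap k K c)).restrictScalars k).comp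
    (sectRing (Finsupp.single P 1 : Divisor k K)).val

theorem evK_apply (c : k) (p : sectRing (Finsupp.single P 1 : Divisor k K)) :
    evK P c p = p.1.eval (algebraMap k K c) := by
  change Polynomial.aeval (algebraMap k K c) p.1 = _
  rw [Polynomial.coe_aeval_eq_eval]

theorem evK_mem_holo (c : k) (p : sectRing (Finsupp.single P 1 : Divisor k K)) :
    evK P c p ∈ holo P := by
  rw [evK_apply, Polynomial.eval_eq_sum, Polynomial.sum_def]
  refine Subalgebra.sum_mem _ fun n _ => ?_
  have h1 : p.1.coeff n ∈ holo P := mem_holo_of_mem_L P ((mem_sectRing_iff P p.1).1 p.2 n)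
  exact Subalgebra.mul_mem _ h1 (Subalgebra.pow_mem _ (Subalgebra.algebraMap_mem _ c) n)

/-- evaluation at `T = c` with values in the holomorphy ring -/
noncomputable def evH (c : k) : sectRing (Finsupp.single P 1 : Divisor k K) →ₐ[k] holo P :=
  (evK P c).codRestrict (holo P) (evK_mem_holo P c)

theorem coe_evH (c : k) (p : sectRing (Finsupp.single P 1 : Divisor k K)) :
    (evH P c p : K) = p.1.eval (algebraMap k K c) := evK_apply P c p

theorem evH_surjective {c : k} (hc : c ≠ 0) : Function.Surjective (evH P c) := by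
  intro z
  obtain ⟨n, hn⟩ := exists_mem_L_of_mem_holo P z.2
  refine ⟨monoR P n ((c ^ n)⁻¹ • (z : K)) (Submodule.smul_mem _ _ hn), ?_⟩
  apply Subtype.ext
  rw [coe_evH, coe_monoR, eval_monomial, Algebra.smul_def, map_inv₀, map_pow]
  have : algebraMap k K c ≠ 0 := by
    rw [Ne, map_eq_zero]; exact hc
  field_simp

include hK in
theorem ker_evH {c : k} (hc : c ≠ 0) :
    RingHom.ker (evH P c : sectRing (Finsupp.single P 1 : Divisor k K) →+* holo P) =
      Ideal.span {tOne hK P - algebraMap k _ c} := by
  classical
  set a : K := algebraMap k K c with ha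
  have ha0 : a ≠ 0 := by
    rw [ha, Ne, map_eq_zero]; exact hc
  have hcoe : ((tOne hK P - algebraMap k _ c : sectRing (Finsupp.single P 1 : Divisor k K)) : K[X])
      = X - C a := by
    rw [AddSubgroupClass.coe_sub, coe_tOne]
    rfl
  apply le_antisymm
  · intro p hp
    rw [RingHom.mem_ker] at hp
    have hp' : p.1.eval a = 0 := by
      rw [← coe_evH]
      change ((evH P c p : holo P) : K) = 0
      have : (evH P c p : holo P) = 0 := hp
      rw [this]; rfl
    obtain ⟨q, hq⟩ := Polynomial.dvd_iff_isRoot.2 hp'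
    have hcoef0 : p.1.coeff 0 = -(a * q.coeff 0) := by
      rw [hq, sub_mul, coeff_sub, coeff_X_mul_zero, coeff_C_mul, zero_sub]
    have hcoefS : ∀ n, p.1.coeff (n + 1) = q.coeff n - a * q.coeff (n + 1) := by
      intro n
      rw [hq, sub_mul, coeff_sub, coeff_X_mul, coeff_C_mul]
    have hsm : ∀ (D : Divisor k K) (z : K), z ∈ L D → a⁻¹ * z ∈ L D := by
      intro D z hz
      have : a⁻¹ * z = c⁻¹ • z := by
        rw [Algebra.smul_def, map_inv₀]
      rw [this]
      exact Submodule.smul_mem _ _ hz
    have hqS : ∀ n : ℕ, q.coeff n ∈ L (nP P (n : ℤ)) := by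
      intro n
      induction n with
      | zero =>
        have h1 : q.coeff 0 = a⁻¹ * (-p.1.coeff 0) := by
          rw [hcoef0]; field_simp
        rw [h1]
        exact hsm _ _ (neg_mem ((mem_sectRing_iff P p.1).1 p.2 0))
      | succ n ih =>
        have h1 : q.coeff (n + 1) = a⁻¹ * (q.coeff n - p.1.coeff (n + 1)) := by
          rw [hcoefS]; field_simp; ring
        rw [h1]
        apply hsm
        refine sub_mem (L_mono ?_ ih) ((mem_sectRing_iff P p.1).1 p.2 (n + 1))
        intro Q
        simp only [nP, Finsupp.single_apply]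
        split_ifs
        · push_cast; omega
        · exact le_rfl
    rw [Ideal.mem_span_singleton']
    refine ⟨⟨q, (mem_sectRing_iff P q).2 hqS⟩, ?_⟩
    apply Subtype.ext
    rw [MulMemClass.coe_mul, hcoe, hq, mul_comm]
  · rw [Ideal.span_le, Set.singleton_subset_iff]
    change _ ∈ RingHom.ker _
    rw [RingHom.mem_ker]
    apply Subtype.ext
    change ((evH P c _ : holo P) : K) = 0
    rw [coe_evH, hcoe]
    simp [ha]

include hK hP in
theorem isNoetherianRing_holo (hg : 0 < genus k K) : IsNoetherianRing (holo P) := by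
  have := isNoetherianRing_sectRing hK P hP hg
  exact isNoetherianRing_of_surjective _ _ (evH P (1 : k)).toRingHom
    (evH_surjective P one_ne_zero)

include hK hP in
theorem isDedekindDomain_holo (hg : 0 < genus k K) : IsDedekindDomain (holo P) := by
  haveI := isFractionRing_holo hK P hP
  rw [isDedekindDomain_iff (holo P) K]
  refine ⟨inferInstance, isNoetherianRing_holo hK P hP hg, ⟨fun {p} hp0 hp => ?_⟩, ?_⟩
  · haveI := hp
    exact isMaximal_of_prime_holo hK P hP p hp0
  · intro x hx
    exact ⟨⟨x, mem_holo_of_isIntegral P hx⟩, rfl⟩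

end

end Groth.Agent.Lib.Helper2.GS
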