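import Mathlib
import Groth.Prelude.Def_W4c6gradedringsgwSect

set_option autoImplicit false
open W4c6gradedringsgw

namespace Groth.Agent.Lib.Helper2.GK

/-- membership of an integer in a set of naturals -/
def inZ (M : Set ℕ) (a : ℤ) : Prop := ∃ h ∈ M, (h : ℤ) = a

/-- pseudo-Frobenius numbers -/
def IsPF (M : Set ℕ) (f : ℤ) : Prop := ¬ inZ M f ∧ ∀ h ∈ M, h ≠ 0 → inZ M (f + h)

theorem inZ_natCast (M : Set ℕ) (n : ℕ) : inZ M (n : ℤ) ↔ n ∈ M := by
  constructor
  · rintro ⟨h, hh, he⟩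
    have : h = n := by exact_mod_cast he
    rwa [← this]
  · intro h
    exact ⟨n, h, rfl⟩

theorem inZ_nonneg {M : Set ℕ} {a : ℤ} (h : inZ M a) : 0 ≤ a := by
  obtain ⟨n, _, rfl⟩ := h
  exact Int.natCast_nonneg n

theorem inZ_add {M : Set ℕ} (hadd : ∀ a ∈ M, ∀ b ∈ M, a + b ∈ M) {a b : ℤ} (ha : inZ M a)
    (hb : inZ M b) : inZ M (a + b) := by
  obtain ⟨m, hm, rfl⟩ := ha
  obtain ⟨n, hn, rfl⟩ := hb
  exact ⟨m + n, hadd m hm n hn, by push_cast; rfl⟩

theorem inZ_of_ge {M : Set ℕ} {c₀ : ℕ} (hc : ∀ n, c₀ ≤ n → n ∈ M) {a : ℤ} (ha : (c₀ : ℤ) ≤ a) :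
    inZ M a := by
  refine ⟨a.toNat, hc _ ?_, ?_⟩
  · omega
  · omega

theorem existsUnique_isPF_iff (M : Set ℕ) (h0 : 0 ∈ M) (hadd : ∀ a ∈ M, ∀ b ∈ M, a + b ∈ M)
    (c₀ : ℕ) (hc : ∀ n, c₀ ≤ n → n ∈ M) : (∃! f, IsPF M f) ↔ IsSymmetric M := by
  have hz0 : inZ M 0 := ⟨0, h0, rfl⟩
  constructor
  · rintro ⟨f₀, hf₀, huniq⟩
    -- the largest gap
    have hbdd : ∃ b : ℤ, ∀ a : ℤ, ¬ inZ M a → a ≤ b := by
      refine ⟨c₀, fun a ha => ?_⟩
      by_contra hlt
      exact ha (inZ_of_ge hc (by omega))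
    have hne : ∃ a : ℤ, ¬ inZ M a := ⟨-1, fun h => by have := inZ_nonneg h; omega⟩
    obtain ⟨F, hF, hFmax⟩ := Int.exists_greatest_of_bdd hbdd hne
    have hPF : IsPF M F := by
      refine ⟨hF, fun h hh hh0 => ?_⟩
      by_contra hcon
      have := hFmax _ hcon
      omega
    have hFf : F = f₀ := huniq F hPF
    refine ⟨F, fun n => ⟨?_, ?_⟩⟩
    · intro hn hFn
      apply hF
      have := inZ_add hadd hn hFn
      rwa [add_sub_cancel] at this
    · intro hFn
      change ¬ inZ M (F - n) at hFn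
      change inZ M n
      by_contra hn
      -- the set of bad elements
      have hbdd' : ∃ b : ℤ, ∀ a : ℤ, (¬ inZ M a ∧ ¬ inZ M (F - a)) → a ≤ b := by
        obtain ⟨b, hb⟩ := hbdd
        exact ⟨b, fun a ha => hb a ha.1⟩
      obtain ⟨a, ⟨ha1, ha2⟩, hamax⟩ := Int.exists_greatest_of_bdd hbdd' ⟨n, hn, hFn⟩
      have hPFa : IsPF M a := by
        refine ⟨ha1, fun h hh hh0 => ?_⟩
        by_contra hcon
        by_cases h2 : inZ M (F - (a + h))
        · apply ha2
          have := inZ_add hadd h2 ((inZ_natCast M h).2 hh)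
          have e : F - (a + (h : ℤ)) + (h : ℤ) = F - a := by ring
          rwa [e] at this
        · have := hamax (a + h) ⟨hcon, h2⟩
          omega
      have haF : a = F := (huniq a hPFa).trans hFf.symm
      apply ha2
      rw [haF, sub_self]
      exact hz0
  · rintro ⟨d, hd⟩
    have hdn : ¬ inZ M d := by
      intro h
      have := (hd d).1 h
      apply this
      rw [sub_self]
      exact hz0
    have hPFd : IsPF M d := by
      refine ⟨hdn, fun h hh hh0 => ?_⟩
      apply (hd (d + h)).2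
      intro hcon
      have := inZ_nonneg hcon
      omega
    refine ⟨d, hPFd, fun f hf => ?_⟩
    have h1 : inZ M (d - f) := by
      apply (hd (d - f)).2
      have e : d - (d - f) = f := by ring
      change ¬ inZ M (d - (d - f))
      rw [e]
      exact hf.1
    obtain ⟨h, hh, he⟩ := h1
    by_cases hh0 : h = 0
    · subst hh0
      have : d - f = 0 := by rw [← he]; rfl
      omega
    · exfalso
      apply hdn
      have := hf.2 h hh hh0
      rwa [he, add_sub_cancel] at this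

end Groth.Agent.Lib.Helper2.GK
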