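import Mathlib
import Groth.Agent.Lib.Helper2.Gor.GK3
import Groth.Agent.Lib.Helper2.Gor.GK2

set_option autoImplicit false
universe u
open Polynomial

namespace Groth.Agent.Lib.Helper2.GK

variable (k : Type u) [Field k] (M : AddSubmonoid ℕ)

/-- the semigroup algebra of a submonoid of `ℕ`, inside the polynomial ring -/
def semiAlg : Subalgebra k k[X] where
  carrier := {q | ∀ n, q.coeff n ≠ 0 → n ∈ M}
  mul_mem' {p q} hp hq n hn := by
    rw [coeff_mul] at hn
    obtain ⟨x, hx, hx0⟩ := Finset.exists_ne_zero_of_sum_ne_zero hn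
    rw [Finset.HasAntidiagonal.mem_antidiagonal] at hx
    rw [← hx]
    exact M.add_mem (hp _ (left_ne_zero_of_mul hx0)) (hq _ (right_ne_zero_of_mul hx0))
  add_mem' {p q} hp hq n hn := by
    rw [coeff_add] at hn
    by_cases h : p.coeff n = 0
    · rw [h, zero_add] at hn
      exact hq n hn
    · exact hp n h
  algebraMap_mem' c n hn := by
    rw [Polynomial.algebraMap_apply, Polynomial.coeff_C] at hn
    split_ifs at hn with h
    · subst h
      exact M.zero_mem
    · exact absurd rfl hn

variable {k M}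

theorem mem_semiAlg_iff (q : k[X]) : q ∈ semiAlg k M ↔ ∀ n, q.coeff n ≠ 0 → n ∈ M := Iff.rfl

theorem X_pow_mem {n : ℕ} (hn : n ∈ M) : (X ^ n : k[X]) ∈ semiAlg k M := by
  intro j hj
  rw [coeff_X_pow] at hj
  split_ifs at hj with h
  · rw [h]; exact hn
  · exact absurd rfl hj

variable (k M) in
/-- the monomial `x^n` as an element of the semigroup algebra (zero if `n ∉ M`) -/
noncomputable def xp (n : ℕ) : semiAlg k M := by
  classical
  exact if h : n ∈ M then ⟨X ^ n, X_pow_mem h⟩ else 0

theorem coe_xp {n : ℕ} (hn : n ∈ M) : (xp k M n : k[X]) = X ^ n := by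
  unfold xp
  rw [dif_pos hn]

theorem xp_mul {a b : ℕ} (ha : a ∈ M) (hb : b ∈ M) : xp k M a * xp k M b = xp k M (a + b) := by
  apply Subtype.ext
  rw [MulMemClass.coe_mul, coe_xp ha, coe_xp hb, coe_xp (M.add_mem ha hb), pow_add]

theorem xp_zero : xp k M 0 = 1 := by
  apply Subtype.ext
  rw [coe_xp M.zero_mem, pow_zero]
  rfl

theorem xp_pow {a : ℕ} (ha : a ∈ M) (n : ℕ) : xp k M a ^ n = xp k M (n * a) := by
  apply Subtype.ext
  rw [SubmonoidClass.coe_pow, coe_xp ha, coe_xp (by rw [← smul_eq_mul]; exact M.nsmul_mem ha n),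
    ← pow_mul, mul_comm]

theorem eq_sum_xp (f : semiAlg k M) : f = ∑ n ∈ f.1.support, f.1.coeff n • xp k M n := by
  apply Subtype.ext
  rw [AddSubmonoidClass.coe_finsetSum]
  conv_lhs => rw [f.1.as_sum_support_C_mul_X_pow]
  refine Finset.sum_congr rfl fun n hn => ?_
  have hnM : n ∈ M := f.2 n (mem_support_iff.1 hn)
  change _ = f.1.coeff n • (xp k M n : k[X])
  rw [coe_xp hnM, Polynomial.smul_eq_C_mul]

variable (k M) in
/-- the constant coefficient -/
noncomputable def c0 : semiAlg k M →ₐ[k] k := (Polynomial.aeval (0 : k)).comp (semiAlg k M).val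

theorem c0_apply (f : semiAlg k M) : c0 k M f = f.1.coeff 0 := by
  change Polynomial.aeval (0 : k) f.1 = _
  rw [Polynomial.aeval_def, Polynomial.eval₂_at_zero]
  rfl

variable (k M) in
/-- the vertex of the monomial curve -/
noncomputable def vertex : Ideal (semiAlg k M) := RingHom.ker (c0 k M : semiAlg k M →+* k)

theorem mem_vertex_iff (f : semiAlg k M) : f ∈ vertex k M ↔ f.1.coeff 0 = 0 := by
  unfold vertex
  rw [RingHom.mem_ker]
  change c0 k M f = 0 ↔ _
  rw [c0_apply]

instance vertex_isMaximal : (vertex k M).IsMaximal := by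
  unfold vertex
  apply RingHom.ker_isMaximal_of_surjective
  intro a
  refine ⟨algebraMap k _ a, ?_⟩
  change c0 k M (algebraMap k _ a) = a
  rw [AlgHom.commutes]
  rfl

section conductor

variable {c : ℕ} (hc : ∀ n, c ≤ n → n ∈ M)

include hc in
theorem X_pow_mul_mem (g : k[X]) {n : ℕ} (hn : c ≤ n) : X ^ n * g ∈ semiAlg k M := by
  intro j hj
  rw [coeff_X_pow_mul'] at hj
  split_ifs at hj with h
  · exact hc j (hn.trans h)
  · exact absurd rfl hj

include hc in
/-- every point of the monomial curve is the evaluation at some `l` -/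
theorem exists_eval_eq (χ : semiAlg k M →ₐ[k] k) : ∃ l : k, ∀ f : semiAlg k M, χ f = f.1.eval l := by
  have hcM : c ∈ M := hc c le_rfl
  have hc1M : c + 1 ∈ M := hc (c + 1) (by omega)
  -- reduction to monomials
  have key : ∀ l : k, (∀ n ∈ M, χ (xp k M n) = l ^ n) → ∀ f : semiAlg k M, χ f = f.1.eval l := by
    intro l hl f
    conv_lhs => rw [eq_sum_xp f]
    rw [map_sum, Polynomial.eval_eq_sum, Polynomial.sum_def]
    refine Finset.sum_congr rfl fun n hn => ?_
    have hnM : n ∈ M := f.2 n (mem_support_iff.1 hn)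
    rw [map_smul, hl n hnM, smul_eq_mul]
  set μ := χ (xp k M c) with hμ
  set ν := χ (xp k M (c + 1)) with hν
  have hνμ : ν ^ c = μ ^ (c + 1) := by
    rw [hν, hμ, ← map_pow, ← map_pow, xp_pow hc1M, xp_pow hcM, mul_comm]
  by_cases h0 : μ = 0
  · refine ⟨0, key 0 fun n hn => ?_⟩
    rcases Nat.eq_zero_or_pos n with rfl | hn0
    · rw [xp_zero, map_one, pow_zero]
    · rw [zero_pow hn0.ne']
      have hc0 : c ≠ 0 := by
        rintro rfl
        rw [hμ, xp_zero, map_one] at h0
        exact one_ne_zero h0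
      have h1 : χ (xp k M n) ^ c = 0 := by
        rw [← map_pow, xp_pow hn, mul_comm, ← xp_pow hcM, map_pow, ← hμ, h0, zero_pow hn0.ne']
      exact (pow_eq_zero_iff hc0).1 h1
  · set l := ν / μ with hl
    have hlc : l ^ c = μ := by
      rw [hl, div_pow, hνμ, pow_succ]
      field_simp
    have hstep : ∀ n, c ≤ n → χ (xp k M n) = l ^ n := by
      intro n hn
      induction n, hn using Nat.le_induction with
      | base => rw [← hμ, hlc]
      | succ n hn ih =>
        have hnM : n ∈ M := hc n hn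
        have hn1M : n + 1 ∈ M := hc (n + 1) (by omega)
        have h1 : xp k M (n + 1) * xp k M c = xp k M n * xp k M (c + 1) := by
          rw [xp_mul hn1M hcM, xp_mul hnM hc1M]
          congr 1
          ring
        have h2 := congrArg χ h1
        rw [map_mul, map_mul, ← hμ, ← hν, ih] at h2
        rw [pow_succ, hl]
        field_simp
        linear_combination h2
    refine ⟨l, key l fun n hn => ?_⟩
    have h1 : xp k M n * xp k M c = xp k M (n + c) := xp_mul hn hcM
    have h2 := congrArg χ h1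
    rw [map_mul, ← hμ, hstep (n + c) (by omega), pow_add, hlc] at h2
    exact mul_right_cancel₀ h0 h2

include hc in
/-- away from the vertex, the monomial curve is regular -/
theorem gor_or_vertex [IsAlgClosed k] [Algebra.FiniteType k (semiAlg k M)]
    (n : Ideal (semiAlg k M)) [hn : n.IsMaximal] :
    n = vertex k M ∨ LocCoh.IsGorensteinLocalRing (Localization.AtPrime n) := by
  have : IsNoetherianRing (semiAlg k M) := Algebra.FiniteType.isNoetherianRing k _
  obtain ⟨χ, hχ⟩ := Groth.Agent.Lib.Helper2.GS.exists_algHom_ker_eq k (semiAlg k M) n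
  obtain ⟨l, hl⟩ := exists_eval_eq hc χ
  have hmem : ∀ f : semiAlg k M, f ∈ n ↔ f.1.eval l = 0 := by
    intro f
    rw [← hχ, RingHom.mem_ker]
    change χ f = 0 ↔ _
    rw [hl]
  by_cases hl0 : l = 0
  · left
    ext f
    rw [hmem, mem_vertex_iff, hl0, ← Polynomial.coeff_zero_eq_eval_zero]
  · right
    have h2c : c + c ∈ M := hc _ (by omega)
    set u : semiAlg k M := ⟨X ^ c * (X - C l), X_pow_mul_mem hc _ le_rfl⟩ with hu
    refine gor_localization_of_principal (semiAlg k M) n u (xp k M (c + c)) ?_ ?_ ?_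
    · rw [hmem]
      change (X ^ c * (X - C l)).eval l = 0
      simp
    · rw [hmem, coe_xp h2c]
      simp [hl0]
    · intro f hf
      rw [hmem] at hf
      obtain ⟨g, hg⟩ := Polynomial.dvd_iff_isRoot.2 hf
      refine ⟨⟨X ^ c * g, X_pow_mul_mem hc _ le_rfl⟩, ?_⟩
      apply Subtype.ext
      rw [MulMemClass.coe_mul, MulMemClass.coe_mul, coe_xp h2c]
      change X ^ (c + c) * f.1 = X ^ c * (X - C l) * (X ^ c * g)
      rw [hg, pow_add]
      ring

end conductor

end Groth.Agent.Lib.Helper2.GK
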