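import Mathlib
import Groth.Agent.Lib.Helper2.Gor.GK4
import Groth.Agent.Lib.Helper2.Gor.GK5

set_option autoImplicit false
universe u
open Polynomial IsLocalRing W4c6gradedringsgw

namespace Groth.Agent.Lib.Helper2.GK

variable {k : Type u} [Field k] {M : AddSubmonoid ℕ}

variable (k M) in
/-- the ideal generated by `x^m` -/
noncomputable def Jm (m : ℕ) : Ideal (semiAlg k M) := Ideal.span {xp k M m}

theorem inZ_sub_iff (m n : ℕ) : inZ (M : Set ℕ) ((n : ℤ) - m) ↔ m ≤ n ∧ n - m ∈ M := by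
  constructor
  · rintro ⟨h, hh, he⟩
    have h1 : m ≤ n := by omega
    refine ⟨h1, ?_⟩
    have : n - m = h := by omega
    rw [this]
    exact hh
  · rintro ⟨h1, h2⟩
    exact ⟨n - m, h2, by omega⟩

section kunz

variable {c : ℕ} (hc : ∀ n, c ≤ n → n ∈ M) {m : ℕ} (hm : m ∈ M) (hm0 : m ≠ 0)

include hm in
theorem mem_Jm_iff (f : semiAlg k M) :
    f ∈ Jm k M m ↔ ∀ n, f.1.coeff n ≠ 0 → inZ (M : Set ℕ) ((n : ℤ) - m) := by
  unfold Jm
  rw [Ideal.mem_span_singleton']
  constructor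
  · rintro ⟨g, rfl⟩ n hn
    rw [MulMemClass.coe_mul, coe_xp hm, coeff_mul_X_pow'] at hn
    split_ifs at hn with h
    · exact (inZ_sub_iff m n).2 ⟨h, g.2 _ hn⟩
    · exact absurd rfl hn
  · intro h
    have hdvd : (X ^ m : k[X]) ∣ f.1 := by
      rw [Polynomial.X_pow_dvd_iff]
      intro d hd
      by_contra hne
      have := inZ_nonneg (h d hne)
      omega
    obtain ⟨g, hg⟩ := hdvd
    have hgS : g ∈ semiAlg k M := by
      intro j hj
      have h1 : f.1.coeff (j + m) = g.coeff j := by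
        rw [hg, coeff_X_pow_mul]
      have h2 := h (j + m) (by rw [h1]; exact hj)
      have e : ((j + m : ℕ) : ℤ) - (m : ℤ) = (j : ℤ) := by push_cast; ring
      rw [e, inZ_natCast] at h2
      exact h2
    refine ⟨⟨g, hgS⟩, ?_⟩
    apply Subtype.ext
    rw [MulMemClass.coe_mul, coe_xp hm, hg, mul_comm]

include hm hm0 in
theorem Jm_le_vertex : Jm k M m ≤ vertex k M := by
  unfold Jm
  rw [Ideal.span_le, Set.singleton_subset_iff]
  change xp k M m ∈ vertex k M
  rw [mem_vertex_iff, coe_xp hm, coeff_X_pow, if_neg (Ne.symm hm0)]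

include hc hm in
theorem pow_mem_Jm {f : semiAlg k M} (hf : f ∈ vertex k M) : f ^ (m + c) ∈ Jm k M m := by
  rw [mem_vertex_iff] at hf
  obtain ⟨g, hg⟩ := Polynomial.X_dvd_iff.2 hf
  rw [mem_Jm_iff hm]
  intro n hn
  rw [SubmonoidClass.coe_pow, hg, mul_pow, coeff_X_pow_mul'] at hn
  split_ifs at hn with h
  · exact (inZ_sub_iff m n).2 ⟨by omega, hc _ (by omega)⟩
  · exact absurd rfl hn

include hm in
/-- the socle condition in terms of exponents -/
theorem forall_mul_mem_Jm_iff (f : semiAlg k M) :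
    (∀ p ∈ vertex k M, p * f ∈ Jm k M m) ↔
      ∀ n, f.1.coeff n ≠ 0 → inZ (M : Set ℕ) ((n : ℤ) - m) ∨ IsPF (M : Set ℕ) ((n : ℤ) - m) := by
  constructor
  · intro h n hn
    by_cases h1 : inZ (M : Set ℕ) ((n : ℤ) - m)
    · exact Or.inl h1
    · right
      refine ⟨h1, fun h' hh' hh0 => ?_⟩
      have hv : xp k M h' ∈ vertex k M := by
        rw [mem_vertex_iff, coe_xp hh', coeff_X_pow, if_neg (Ne.symm hh0)]
      have h2 := (mem_Jm_iff hm _).1 (h _ hv) (n + h') (by
        rw [MulMemClass.coe_mul, coe_xp hh', coeff_X_pow_mul]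
        exact hn)
      have e : ((n + h' : ℕ) : ℤ) - (m : ℤ) = (n : ℤ) - m + h' := by push_cast; ring
      rwa [e] at h2
  · intro h p hp
    rw [mem_vertex_iff] at hp
    rw [mem_Jm_iff hm]
    intro N hN
    rw [MulMemClass.coe_mul, coeff_mul] at hN
    obtain ⟨x, hx, hx0⟩ := Finset.exists_ne_zero_of_sum_ne_zero hN
    rw [Finset.HasAntidiagonal.mem_antidiagonal] at hx
    have hp1 : p.1.coeff x.1 ≠ 0 := left_ne_zero_of_mul hx0
    have hf2 : f.1.coeff x.2 ≠ 0 := right_ne_zero_of_mul hx0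
    have hx10 : x.1 ≠ 0 := by
      intro h0
      rw [h0] at hp1
      exact hp1 hp
    have hx1M : x.1 ∈ M := p.2 _ hp1
    have e : (N : ℤ) - m = ((x.2 : ℤ) - m) + x.1 := by
      rw [← hx]; push_cast; ring
    rw [e]
    rcases h x.2 hf2 with h1 | h1
    · exact inZ_add (fun a ha b hb => M.add_mem ha hb) h1 ((inZ_natCast _ _).2 hx1M)
    · exact h1.2 x.1 hx1M hx10

end kunz

end Groth.Agent.Lib.Helper2.GK
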