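import Mathlib
import Groth.Agent.Lib.Helper2.Gor.GK6

set_option autoImplicit false
universe u
open Polynomial IsLocalRing W4c6gradedringsgw

namespace Groth.Agent.Lib.Helper2.GK

attribute [-instance] Ideal.Quotient.semiring

variable {k : Type u} [Field k] {M : AddSubmonoid ℕ}

variable (k M) in
/-- the Artinian quotient of the semigroup algebra by `x^m` -/
abbrev Tm (m : ℕ) : Type u := semiAlg k M ⧸ Jm k M m

variable (k M) in
/-- the image of the vertex in the quotient -/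
noncomputable def qm (m : ℕ) : Ideal (Tm k M m) := (vertex k M).map (Ideal.Quotient.mk (Jm k M m))

variable (k M) in
/-- the socle of the quotient with respect to the image of the vertex -/
noncomputable def socm (m : ℕ) : Submodule (Tm k M m) (Tm k M m) :=
  Submodule.torsionBySet (Tm k M m) (Tm k M m) (qm k M m : Set (Tm k M m))

section kunz

variable {c : ℕ} (hc : ∀ n, c ≤ n → n ∈ M) {m : ℕ} (hm : m ∈ M) (hm0 : m ≠ 0)

theorem mem_qm_iff (t : Tm k M m) :
    t ∈ qm k M m ↔ ∃ p ∈ vertex k M, Ideal.Quotient.mk (Jm k M m) p = t :=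
  Ideal.mem_map_iff_of_surjective _ Ideal.Quotient.mk_surjective

include hm hm0 in
theorem comap_qm : (qm k M m).comap (Ideal.Quotient.mk (Jm k M m)) = vertex k M := by
  unfold qm
  rw [Ideal.comap_map_of_surjective _ Ideal.Quotient.mk_surjective, ← RingHom.ker_eq_comap_bot,
    Ideal.mk_ker, sup_eq_left]
  exact Jm_le_vertex hm hm0

include hm hm0 in
theorem qm_isMaximal : (qm k M m).IsMaximal := by
  rcases Ideal.map_eq_top_or_isMaximal_of_surjective (Ideal.Quotient.mk (Jm k M m))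
    Ideal.Quotient.mk_surjective (vertex_isMaximal (k := k) (M := M)) with h | h
  · exfalso
    have h1 := comap_qm (k := k) hm hm0
    unfold qm at h1
    rw [h, Ideal.comap_top] at h1
    exact (vertex_isMaximal (k := k) (M := M)).ne_top h1.symm
  · exact h

include hc hm hm0 in
theorem prime_eq_qm (p : Ideal (Tm k M m)) [hp : p.IsPrime] : p = qm k M m := by
  have hle : qm k M m ≤ p := by
    intro t ht
    obtain ⟨f, hf, rfl⟩ := (mem_qm_iff t).1 ht
    have h1 := pow_mem_Jm hc hm hf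
    have h2 : (Ideal.Quotient.mk (Jm k M m) f) ^ (m + c) = 0 := by
      rw [← map_pow]
      exact Ideal.Quotient.eq_zero_iff_mem.2 h1
    exact hp.mem_of_pow_mem (m + c) (by rw [h2]; exact zero_mem _)
  exact ((qm_isMaximal hm hm0).eq_of_le hp.ne_top hle).symm

include hc hm hm0 in
theorem isLocalRing_Tm : IsLocalRing (Tm k M m) := by
  have h : ∃! I : Ideal (Tm k M m), I.IsMaximal := by
    refine ⟨qm k M m, qm_isMaximal hm hm0, fun I (hI : I.IsMaximal) => ?_⟩
    have := hI.isPrime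
    exact prime_eq_qm hc hm hm0 I
  exact @IsLocalRing.of_unique_max_ideal (Tm k M m) _ h

include hm hm0 in
theorem maximalIdeal_Tm (h : IsLocalRing (Tm k M m)) :
    @maximalIdeal (Tm k M m) _ h = qm k M m :=
  (IsLocalRing.eq_maximalIdeal (qm_isMaximal (k := k) hm hm0)).symm

include hc hm hm0 in
theorem ringKrullDim_Tm : ringKrullDim (Tm k M m) = 0 := by
  have := isLocalRing_Tm (k := k) hc hm hm0
  rw [← ringKrullDimZero_iff_ringKrullDim_eq_zero, Ring.krullDimLE_zero_iff]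
  intro I hI
  rw [prime_eq_qm hc hm hm0 I]
  exact qm_isMaximal hm hm0

theorem mk_mem_socm_iff (f : semiAlg k M) :
    Ideal.Quotient.mk (Jm k M m) f ∈ socm k M m ↔ ∀ p ∈ vertex k M, p * f ∈ Jm k M m := by
  unfold socm
  rw [Submodule.mem_torsionBySet_iff]
  constructor
  · intro h p hp
    have h1 := h ⟨Ideal.Quotient.mk (Jm k M m) p, (mem_qm_iff _).2 ⟨p, hp, rfl⟩⟩
    rw [← Ideal.Quotient.eq_zero_iff_mem, map_mul]
    exact h1
  · rintro h ⟨a, ha⟩
    obtain ⟨p, hp, rfl⟩ := (mem_qm_iff a).1 ha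
    change Ideal.Quotient.mk (Jm k M m) p * Ideal.Quotient.mk (Jm k M m) f = 0
    rw [← map_mul]
    exact Ideal.Quotient.eq_zero_iff_mem.2 (h p hp)

include hm hm0 in
theorem mem_of_isPF {n : ℕ} (h : IsPF (M : Set ℕ) ((n : ℤ) - m)) : n ∈ M := by
  have := h.2 m hm hm0
  rw [sub_add_cancel, inZ_natCast] at this
  exact this

include hm hm0 in
theorem mk_xp_mem_socm {n : ℕ} (h : IsPF (M : Set ℕ) ((n : ℤ) - m)) :
    Ideal.Quotient.mk (Jm k M m) (xp k M n) ∈ socm k M m := by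
  have hn : n ∈ M := mem_of_isPF hm hm0 h
  rw [mk_mem_socm_iff, forall_mul_mem_Jm_iff hm]
  intro j hj
  rw [coe_xp hn, coeff_X_pow] at hj
  split_ifs at hj with hjn
  · rw [hjn]
    exact Or.inr h
  · exact absurd rfl hj

include hm in
theorem mk_xp_ne_zero {n : ℕ} (hn : n ∈ M) (h : ¬ inZ (M : Set ℕ) ((n : ℤ) - m)) :
    Ideal.Quotient.mk (Jm k M m) (xp k M n) ≠ 0 := by
  intro h0
  rw [Ideal.Quotient.eq_zero_iff_mem, mem_Jm_iff hm] at h0
  apply h
  apply h0 n
  rw [coe_xp hn, coeff_X_pow, if_pos rfl]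
  exact one_ne_zero

include hm hm0 in
/-- the socle is simple iff there is a unique pseudo-Frobenius number -/
theorem isSimpleModule_socm_iff :
    IsSimpleModule (Tm k M m) (socm k M m) ↔ ∃! f : ℤ, IsPF (M : Set ℕ) f := by
  rw [isSimpleModule_iff_toSpanSingleton_surjective]
  constructor
  · rintro ⟨hnt, hsurj⟩
    -- existence
    have hex : ∃ f : ℤ, IsPF (M : Set ℕ) f := by
      obtain ⟨⟨σ, hσ⟩, hσ0⟩ := exists_ne (0 : socm k M m)
      obtain ⟨f, rfl⟩ := Ideal.Quotient.mk_surjective σ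
      have hfJ : f ∉ Jm k M m := by
        intro h
        apply hσ0
        apply Subtype.ext
        exact Ideal.Quotient.eq_zero_iff_mem.2 h
      rw [mem_Jm_iff hm] at hfJ
      push Not at hfJ
      obtain ⟨n, hn, hnz⟩ := hfJ
      rw [mk_mem_socm_iff, forall_mul_mem_Jm_iff hm] at hσ
      rcases hσ n hn with h1 | h1
      · exact absurd h1 hnz
      · exact ⟨_, h1⟩
    obtain ⟨f₁, hf₁⟩ := hex
    refine ⟨f₁, hf₁, fun f₂ hf₂ => ?_⟩
    -- uniqueness
    have hnat : ∀ f : ℤ, IsPF (M : Set ℕ) f → ∃ n : ℕ, (n : ℤ) - m = f := by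
      intro f hf
      obtain ⟨n, _, hn⟩ := hf.2 m hm hm0
      exact ⟨n, by omega⟩
    obtain ⟨n₁, rfl⟩ := hnat f₁ hf₁
    obtain ⟨n₂, rfl⟩ := hnat f₂ hf₂
    have hn₁ : n₁ ∈ M := mem_of_isPF hm hm0 hf₁
    have hn₂ : n₂ ∈ M := mem_of_isPF hm hm0 hf₂
    set σ₁ : socm k M m := ⟨_, mk_xp_mem_socm hm hm0 hf₁⟩ with hσ₁
    set σ₂ : socm k M m := ⟨_, mk_xp_mem_socm hm hm0 hf₂⟩ with hσ₂
    have hσ₁0 : σ₁ ≠ 0 := by
      intro h
      exact mk_xp_ne_zero hm hn₁ hf₁.1 (congrArg Subtype.val h)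
    obtain ⟨t, ht⟩ := hsurj σ₁ hσ₁0 σ₂
    obtain ⟨g, rfl⟩ := Ideal.Quotient.mk_surjective t
    have ht' := congrArg Subtype.val ht
    rw [LinearMap.toSpanSingleton_apply] at ht'
    change Ideal.Quotient.mk (Jm k M m) g * Ideal.Quotient.mk (Jm k M m) (xp k M n₁) =
      Ideal.Quotient.mk (Jm k M m) (xp k M n₂) at ht'
    rw [← map_mul, Ideal.Quotient.eq, mem_Jm_iff hm] at ht'
    have h2 := ht' n₂
    have hcoef : (g * xp k M n₁ - xp k M n₂ : semiAlg k M).1.coeff n₂ = 0 := by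
      by_contra hne
      exact hf₂.1 (h2 hne)
    rw [AddSubgroupClass.coe_sub, MulMemClass.coe_mul, coe_xp hn₁, coe_xp hn₂, coeff_sub,
      coeff_X_pow, if_pos rfl, coeff_mul_X_pow'] at hcoef
    split_ifs at hcoef with hle
    · have hg : g.1.coeff (n₂ - n₁) ≠ 0 := by
        intro h0
        rw [h0, zero_sub] at hcoef
        exact one_ne_zero (neg_eq_zero.1 hcoef)
      have hd : n₂ - n₁ ∈ M := g.2 _ hg
      by_cases hd0 : n₂ - n₁ = 0
      · have : n₁ = n₂ := by omega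
        rw [this]
      · exfalso
        apply hf₂.1
        have := hf₁.2 _ hd hd0
        have e : (n₁ : ℤ) - m + ((n₂ - n₁ : ℕ) : ℤ) = (n₂ : ℤ) - m := by omega
        rwa [e] at this
    · rw [zero_sub] at hcoef
      exact absurd (neg_eq_zero.1 hcoef) one_ne_zero
  · rintro ⟨f₀, hf₀, huniq⟩
    obtain ⟨n₀, hn₀⟩ : ∃ n : ℕ, (n : ℤ) - m = f₀ := by
      obtain ⟨n, _, hn⟩ := hf₀.2 m hm hm0
      exact ⟨n, by omega⟩
    subst hn₀
    have hn₀M : n₀ ∈ M := mem_of_isPF hm hm0 hf₀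
    set σ₀ : socm k M m := ⟨_, mk_xp_mem_socm hm hm0 hf₀⟩ with hσ₀
    have hσ₀0 : σ₀ ≠ 0 := by
      intro h
      exact mk_xp_ne_zero hm hn₀M hf₀.1 (congrArg Subtype.val h)
    -- representation of socle elements
    have hrep : ∀ σ : socm k M m, ∃ a : k,
        σ.1 = Ideal.Quotient.mk (Jm k M m) (algebraMap k _ a) *
          Ideal.Quotient.mk (Jm k M m) (xp k M n₀) := by
      rintro ⟨σ, hσ⟩
      obtain ⟨f, rfl⟩ := Ideal.Quotient.mk_surjective σ
      refine ⟨f.1.coeff n₀, ?_⟩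
      change Ideal.Quotient.mk (Jm k M m) f =
        Ideal.Quotient.mk (Jm k M m) (algebraMap k _ (f.1.coeff n₀)) *
          Ideal.Quotient.mk (Jm k M m) (xp k M n₀)
      rw [← map_mul, Ideal.Quotient.eq, mem_Jm_iff hm]
      intro n hn
      rw [mk_mem_socm_iff, forall_mul_mem_Jm_iff hm] at hσ
      rw [AddSubgroupClass.coe_sub, MulMemClass.coe_mul, coe_xp hn₀M, coeff_sub] at hn
      change f.1.coeff n - (C (f.1.coeff n₀) * X ^ n₀ : k[X]).coeff n ≠ 0 at hn
      rw [coeff_C_mul, coeff_X_pow] at hn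
      by_cases hnn : n = n₀
      · exfalso
        apply hn
        rw [if_pos hnn, mul_one, hnn, sub_self]
      · rw [if_neg hnn, mul_zero, sub_zero] at hn
        rcases hσ n hn with h1 | h1
        · exact h1
        · exfalso
          have := huniq _ h1
          omega
    refine ⟨⟨σ₀, 0, hσ₀0⟩, fun σ hσ0 σ' => ?_⟩
    obtain ⟨a, ha⟩ := hrep σ
    obtain ⟨a', ha'⟩ := hrep σ'
    have ha0 : a ≠ 0 := by
      rintro rfl
      apply hσ0
      apply Subtype.ext
      rw [ha, map_zero, map_zero, zero_mul]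
      rfl
    refine ⟨Ideal.Quotient.mk (Jm k M m) (algebraMap k _ (a' / a)), ?_⟩
    rw [LinearMap.toSpanSingleton_apply]
    apply Subtype.ext
    change Ideal.Quotient.mk (Jm k M m) (algebraMap k _ (a' / a)) * σ.1 = σ'.1
    rw [ha, ha', ← mul_assoc, ← map_mul, ← map_mul, ← map_mul (algebraMap k _),
      div_mul_cancel₀ _ ha0, map_mul]

end kunz

end Groth.Agent.Lib.Helper2.GK
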