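import Mathlib
import Groth.Agent.Lib.Helper2.Gor.GK7

set_option autoImplicit false
universe u
open Polynomial IsLocalRing W4c6gradedringsgw

namespace Groth.Agent.Lib.Helper2.GK

attribute [-instance] Ideal.Quotient.semiring

variable {k : Type u} [Field k] {M : AddSubmonoid ℕ}

/-- Kunz: the vertex of a monomial curve is Gorenstein iff the semigroup is symmetric -/
theorem gor_vertex_iff [Algebra.FiniteType k (semiAlg k M)] {c : ℕ} (hc : ∀ n, c ≤ n → n ∈ M) :
    LocCoh.IsGorensteinLocalRing (Localization.AtPrime (vertex k M)) ↔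
      IsSymmetric (M : Set ℕ) := by
  have hN : IsNoetherianRing (semiAlg k M) := Algebra.FiniteType.isNoetherianRing k _
  have hm : c + 1 ∈ M := hc _ (by omega)
  have hm0 : c + 1 ≠ 0 := by omega
  have hx0 : xp k M (c + 1) ≠ 0 := by
    intro h
    have h1 := congrArg Subtype.val h
    rw [coe_xp hm] at h1
    exact pow_ne_zero _ Polynomial.X_ne_zero h1
  have hx : xp k M (c + 1) ∈ nonZeroDivisors (semiAlg k M) := mem_nonZeroDivisors_of_ne_zero hx0
  have hqmax : (qm k M (c + 1)).IsMaximal := qm_isMaximal hm hm0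
  have hqprime : (qm k M (c + 1)).IsPrime := hqmax.isPrime
  rw [gor_localization_quot_iff (xp k M (c + 1)) hx (Jm k M (c + 1)) rfl (qm k M (c + 1))
    (vertex k M) (comap_qm hm hm0).symm]
  have hloc : IsLocalRing (Tm k M (c + 1)) := isLocalRing_Tm hc hm hm0
  have hmax := maximalIdeal_Tm (k := k) hm hm0 hloc
  rw [gor_localization_self_iff (Tm k M (c + 1)) (qm k M (c + 1)) hmax.symm]
  rw [Groth.Agent.Lib.Helper16.GorFlat.isGorenstein_iff_of_dim_zero (Tm k M (c + 1))
    (ringKrullDim_Tm hc hm hm0)]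
  rw [Module.length_eq_one_iff, hmax]
  refine Iff.trans ?_ (existsUnique_isPF_iff (M : Set ℕ) M.zero_mem
    (fun a ha b hb => M.add_mem ha hb) c hc)
  refine Iff.trans ?_ (isSimpleModule_socm_iff (k := k) hm hm0)
  exact Iff.rfl

end Groth.Agent.Lib.Helper2.GK
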