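import Mathlib
import Groth.Agent.Lib.Helper2.Gor.GK8
import Groth.Agent.Lib.Helper2.Gor.GK11
import Groth.Agent.Lib.Helper2.FunFld.Gaps

set_option autoImplicit false
universe u
open scoped WithZero
open FunFld Polynomial W4c6gradedringsgw

namespace Groth.Agent.Lib.Helper2.GS

open Groth.Agent.Lib.Helper2.FF Groth.Agent.Lib.Helper2.GK

variable {k K : Type u} [Field k] [Field K] [Algebra k K]

section

variable (hK : IsFunctionField k K) (P : FunFld.Place k K) (hP : P.deg = 1) {π : K}
  (hπ : v P π = WithZero.exp (-1 : ℤ))

/-- the leading coefficient map with values in the semigroup algebra -/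
noncomputable def PhiS : sectRing (Finsupp.single P 1 : Divisor k K) →ₐ[k]
    semiAlg k (poleMonoid hK P hP) :=
  (Phi P hP hπ).codRestrict (semiAlg k (poleMonoid hK P hP)) (fun p n hn =>
    mem_poleOrders_of_coeff_Phi_ne_zero hK P hP hπ p n hn)

theorem coe_PhiS (p : sectRing (Finsupp.single P 1 : Divisor k K)) :
    (PhiS hK P hP hπ p : k[X]) = Phi P hP hπ p := rfl

theorem PhiS_surjective : Function.Surjective (PhiS hK P hP hπ) := by
  intro f
  have h1 : (f : k[X]) ∈ ((Phi P hP hπ).range : Set k[X]) := by
    rw [range_Phi hK]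
    exact f.2
  obtain ⟨p, hp⟩ := h1
  exact ⟨p, Subtype.ext hp⟩

theorem ker_PhiS (hg : 0 < genus k K) :
    RingHom.ker (PhiS hK P hP hπ : sectRing (Finsupp.single P 1 : Divisor k K) →+*
      semiAlg k (poleMonoid hK P hP)) = Ideal.span {tOne hK P} := by
  rw [← ker_Phi hK P hP hπ hg (tOne hK P) (a := 1) one_ne_zero
    (by rw [coe_tOne, map_one, one_mul])]
  ext p
  rw [RingHom.mem_ker, RingHom.mem_ker]
  constructor
  · intro h
    exact congrArg Subtype.val h
  · intro h
    exact Subtype.ext h

include hK in
theorem comap_vertex :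
    (vertex k (poleMonoid hK P hP)).comap
      (PhiS hK P hP hπ : sectRing (Finsupp.single P 1 : Divisor k K) →+*
        semiAlg k (poleMonoid hK P hP)) = irr P := by
  ext p
  rw [Ideal.mem_comap, mem_vertex_iff, mem_irr_iff]
  change (Phi P hP hπ p).coeff 0 = 0 ↔ _
  rw [coeff_Phi_eq_zero_iff]
  have h0 : p.1.coeff 0 ∈ L (0 : Divisor k K) := by
    have := (mem_sectRing_iff P p.1).1 p.2 0
    simpa [nP] using this
  rw [L_zero hK, Submodule.one_eq_range, LinearMap.mem_range] at h0
  obtain ⟨c, hc⟩ := h0
  rw [Algebra.linearMap_apply] at hc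
  rw [← hc]
  constructor
  · intro h
    by_contra hne
    have hc0 : c ≠ 0 := by
      rintro rfl
      exact hne (map_zero _)
    rw [v_algebraMap P hc0] at h
    simp at h
  · intro h
    rw [h, map_zero]
    simp

end

instance irr_isPrime (P : FunFld.Place k K) : (irr P).IsPrime := RingHom.ker_isPrime _

section main

variable [IsAlgClosed k] (hK : IsFunctionField k K) (hg : 0 < genus k K) (P : FunFld.Place k K)

theorem tOne_mem_nonZeroDivisors :
    tOne hK P ∈ nonZeroDivisors (sectRing (Finsupp.single P 1 : Divisor k K)) := by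
  apply mem_nonZeroDivisors_of_ne_zero
  intro h
  have h1 := congrArg Subtype.val h
  rw [coe_tOne] at h1
  exact Polynomial.X_ne_zero h1

include hK hg in
/-- the vertex of the cone is Gorenstein iff the Weierstrass semigroup is symmetric -/
theorem gor_irr_iff :
    LocCoh.IsGorensteinLocalRing (Localization.AtPrime (irr P)) ↔
      IsSymmetric (poleOrders P) := by
  have hP : P.deg = 1 := deg_eq_one_of_isAlgClosed hK P
  obtain ⟨π, hπ⟩ := exists_uniformizer P
  have hN : IsNoetherianRing (sectRing (Finsupp.single P 1 : Divisor k K)) :=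
    isNoetherianRing_sectRing hK P hP hg
  have hFT : Algebra.FiniteType k (sectRing (Finsupp.single P 1 : Divisor k K)) :=
    finiteType_sectRing hK P hP hg
  have hFTS : Algebra.FiniteType k (semiAlg k (poleMonoid hK P hP)) :=
    Algebra.FiniteType.of_surjective (PhiS hK P hP hπ) (PhiS_surjective hK P hP hπ)
  have hc : ∀ n, 2 * genus k K ≤ n → n ∈ poleMonoid hK P hP := fun n hn =>
    mem_poleOrders_of_ge hK P hP hn
  rw [gor_cut (PhiS hK P hP hπ : sectRing (Finsupp.single P 1 : Divisor k K) →+*
      semiAlg k (poleMonoid hK P hP)) (PhiS_surjective hK P hP hπ) (tOne hK P)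
    (tOne_mem_nonZeroDivisors hK P) (ker_PhiS hK P hP hπ hg) (vertex k (poleMonoid hK P hP))
    (irr P) (comap_vertex hK P hP hπ).symm]
  exact gor_vertex_iff hc

include hK hg in
/-- away from the vertex the cone is Gorenstein -/
theorem gor_or_eq_irr (m : Ideal (sectRing (Finsupp.single P 1 : Divisor k K))) [hm : m.IsMaximal] :
    m = irr P ∨ LocCoh.IsGorensteinLocalRing (Localization.AtPrime m) := by
  have hP : P.deg = 1 := deg_eq_one_of_isAlgClosed hK P
  obtain ⟨π, hπ⟩ := exists_uniformizer P
  have hN : IsNoetherianRing (sectRing (Finsupp.single P 1 : Divisor k K)) :=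
    isNoetherianRing_sectRing hK P hP hg
  have hFT : Algebra.FiniteType k (sectRing (Finsupp.single P 1 : Divisor k K)) :=
    finiteType_sectRing hK P hP hg
  obtain ⟨χ, hχ⟩ := exists_algHom_ker_eq k (sectRing (Finsupp.single P 1 : Divisor k K)) m
  have hmem : ∀ p, p ∈ m ↔ χ p = 0 := by
    intro p
    rw [← hχ, RingHom.mem_ker]
    rfl
  set c : k := χ (tOne hK P) with hc
  by_cases hc0 : c = 0
  · -- cut by T
    have htm : tOne hK P ∈ m := (hmem _).2 hc0
    set φ : sectRing (Finsupp.single P 1 : Divisor k K) →+* semiAlg k (poleMonoid hK P hP) :=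
      (PhiS hK P hP hπ : sectRing (Finsupp.single P 1 : Divisor k K) →+*
        semiAlg k (poleMonoid hK P hP)) with hφ
    have hsurj : Function.Surjective φ := PhiS_surjective hK P hP hπ
    have hker : RingHom.ker φ = Ideal.span {tOne hK P} := ker_PhiS hK P hP hπ hg
    have hkm : RingHom.ker φ ≤ m := by
      rw [hker, Ideal.span_le, Set.singleton_subset_iff]
      exact htm
    have hcomap : (m.map φ).comap φ = m := by
      rw [Ideal.comap_map_of_surjective φ hsurj, ← RingHom.ker_eq_comap_bot, sup_eq_left]
      exact hkm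
    have hmax : (m.map φ).IsMaximal := by
      rcases Ideal.map_eq_top_or_isMaximal_of_surjective φ hsurj hm with h | h
      · exfalso
        rw [h, Ideal.comap_top] at hcomap
        exact hm.ne_top hcomap.symm
      · exact h
    have hFTS : Algebra.FiniteType k (semiAlg k (poleMonoid hK P hP)) :=
      Algebra.FiniteType.of_surjective (PhiS hK P hP hπ) (PhiS_surjective hK P hP hπ)
    have hcond : ∀ n, 2 * genus k K ≤ n → n ∈ poleMonoid hK P hP := fun n hn =>
      mem_poleOrders_of_ge hK P hP hn
    rcases gor_or_vertex hcond (m.map φ) with h | h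
    · left
      rw [← hcomap, h]
      exact comap_vertex hK P hP hπ
    · right
      rw [gor_cut φ hsurj (tOne hK P) (tOne_mem_nonZeroDivisors hK P) hker (m.map φ) m
        hcomap.symm]
      exact h
  · -- cut by T - c
    right
    set x : sectRing (Finsupp.single P 1 : Divisor k K) := tOne hK P - algebraMap k _ c with hx
    have hxm : x ∈ m := by
      rw [hmem, hx, map_sub, AlgHom.commutes, ← hc]
      exact sub_self _
    have hx0 : x ≠ 0 := by
      intro h
      have h1 := congrArg Subtype.val h
      rw [hx, AddSubgroupClass.coe_sub, coe_tOne] at h1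
      have h2 := congrArg (fun q : K[X] => q.coeff 1) h1
      change (X - C (algebraMap k K c) : K[X]).coeff 1 = (0 : K[X]).coeff 1 at h2
      rw [coeff_sub, coeff_X_one, coeff_C, if_neg one_ne_zero, sub_zero, coeff_zero] at h2
      exact one_ne_zero h2
    set φ : sectRing (Finsupp.single P 1 : Divisor k K) →+* holo P :=
      (evH P c : sectRing (Finsupp.single P 1 : Divisor k K) →+* holo P) with hφ
    have hsurj : Function.Surjective φ := evH_surjective P hc0
    have hker : RingHom.ker φ = Ideal.span {x} := ker_evH hK P hc0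
    have hkm : RingHom.ker φ ≤ m := by
      rw [hker, Ideal.span_le, Set.singleton_subset_iff]
      exact hxm
    have hcomap : (m.map φ).comap φ = m := by
      rw [Ideal.comap_map_of_surjective φ hsurj, ← RingHom.ker_eq_comap_bot, sup_eq_left]
      exact hkm
    have hprime : (m.map φ).IsPrime := Ideal.map_isPrime_of_surjective hsurj hkm
    rw [gor_cut φ hsurj x (mem_nonZeroDivisors_of_ne_zero hx0) hker (m.map φ) m hcomap.symm]
    have hD : IsDedekindDomain (holo P) := isDedekindDomain_holo hK P hP hg
    exact gor_localization_of_isDedekindDomain (holo P) (m.map φ)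

include hK hg in
/-- **Kunz for cones over curves**: the section ring of a point is Gorenstein iff the
Weierstrass semigroup is symmetric -/
theorem isGorensteinRing_sectRing_iff :
    LocCoh.IsGorensteinRing (sectRing (Finsupp.single P 1 : Divisor k K)) ↔
      IsSymmetric (poleOrders P) := by
  have hP : P.deg = 1 := deg_eq_one_of_isAlgClosed hK P
  have hN : IsNoetherianRing (sectRing (Finsupp.single P 1 : Divisor k K)) :=
    isNoetherianRing_sectRing hK P hP hg
  constructor
  · intro h
    rw [← gor_irr_iff hK hg P]
    exact h.isGorensteinLocalRing_localization (irr P)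
  · intro h
    apply isGorensteinRing_of_maximal
    intro m hm
    rcases gor_or_eq_irr hK hg P m with h1 | h1
    · subst h1
      exact (gor_irr_iff hK hg P).2 h
    · exact h1

end main

end Groth.Agent.Lib.Helper2.GS
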